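import Groth.Agent.RedCharZeroLib.Eigen
import Groth.Agent.DiagHopfLib.MonoSurj
import Mathlib.RingTheory.HopfAlgebra.MonoidAlgebra
import Mathlib.RingTheory.Coalgebra.Convolution
import Mathlib.GroupTheory.Archimedean
import Mathlib.Algebra.Module.Rat
import Mathlib.RingTheory.HopfAlgebra.Convolution
import Mathlib.LinearAlgebra.Basis.VectorSpace

/-!
# A point derivation that is not locally nilpotent gives a one-parameter subgroup

The semisimple part of the derivation grades the coordinate ring; a projection of the weights to the integers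
gives a surjection onto Laurent polynomials.
-/

set_option autoImplicit false

noncomputable section

universe u v w

open TensorProduct HopfRep WithConv
open scoped ComodLib

namespace RedCharZeroLib

variable {k : Type u} [Field k] {A : Type u} [CommRing A] [HopfAlgebra k A]

local notation "𝔸" => ComodLib.Dual' k A
local notation "ε" => CoalgebraStruct.counit (R := k) (A := A)

/-- The coordinate ring of the multiplicative group. -/
abbrev Laur₁ (k : Type u) [Field k] : Type u := MonoidAlgebra k (Multiplicative (Fin 1 → ℤ))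

/-- The character `m`. -/
def tpow (m : ℤ) : Laur₁ k := MonoidAlgebra.single (Multiplicative.ofAdd fun _ ↦ m) 1

theorem tpow_mul (a b : ℤ) : tpow (k := k) a * tpow b = tpow (a + b) := by
  simp only [tpow, MonoidAlgebra.single_mul_single, one_mul, ← ofAdd_add]
  rfl

theorem tpow_zero : tpow (k := k) 0 = 1 := rfl

theorem comul_tpow (m : ℤ) : CoalgebraStruct.comul (R := k) (tpow (k := k) m) = tpow m ⊗ₜ[k] tpow m := by
  simp [tpow, MonoidAlgebra.comul_single]

theorem counit_tpow (m : ℤ) : CoalgebraStruct.counit (R := k) (tpow (k := k) m) = 1 := by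
  simp [tpow, MonoidAlgebra.counit_single]

theorem antipode_tpow (m : ℤ) : HopfAlgebraStruct.antipode (R := k) (tpow (k := k) m) = tpow (-m) := by
  simp only [tpow, MonoidAlgebra.antipode_single]
  simp
  rfl

/-- A point derivation that is not locally nilpotent gives a surjection onto Laurent polynomials. -/
theorem exists_surjective_laurent [IsAlgClosed k] [CharZero k] [Algebra.FiniteType k A] {x : 𝔸} (hx : IsDer x)
    (hn : ¬ ∀ a : A, ∃ n : ℕ, x ^ n • a = 0) :
    ∃ φ : A →ₐc[k] Laur₁ k, Function.Surjective φ := by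
  classical
  let W : Set k := {μ | ∃ b ∈ gen x μ, ε b ≠ 0}
  have hzero : ∀ μ, μ ∉ W → gen x μ = ⊥ := fun μ hμ ↦ eq_bot_iff.2 fun a ha ↦ by
    by_contra h0
    obtain ⟨f, hf, -⟩ := Submodule.exists_dual_map_eq_bot_of_notMem (p := (⊥ : Submodule k A))
      (by simpa using h0) inferInstance
    apply hf
    rw [← ComodLib.counit_coeff (A := A) f a]
    by_contra hne
    exact hμ ⟨_, map_mem_gen ((ComodLib.coeff f).restrictScalars k)
      (fun b ↦ (ComodLib.coeff f).map_smul x b) ha, hne⟩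
  obtain ⟨μ₀, hμ₀W, hμ₀⟩ : ∃ μ ∈ W, μ ≠ 0 := by
    by_contra! h
    refine hn fun a ↦ ?_
    have hle : iSup (gen x) ≤ gen x 0 := iSup_le fun μ ↦ by
      by_cases hμ : μ ∈ W
      · rw [h μ hμ]
      · rw [hzero μ hμ]; exact bot_le
    rw [iSup_gen] at hle
    obtain ⟨n, hn'⟩ := (mem_gen_iff x 0 a).1 (hle trivial)
    refine ⟨n, ?_⟩
    rw [zero_smul, sub_zero, ← map_pow] at hn'
    exact hn'
  -- a finite set of weights spanning all of them
  obtain ⟨s, hs⟩ := Algebra.FiniteType.out (R := k) (A := A)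
  have hcomp : ∀ a : A, ∃ t : Finset k, a ∈ ⨆ μ ∈ t, gen x μ := fun a ↦
    Submodule.exists_finset_of_mem_iSup _ (by rw [iSup_gen]; trivial)
  choose t ht using hcomp
  let T : Finset k := s.biUnion t
  let Λ : AddSubgroup k := AddSubgroup.closure (T : Set k)
  let B : Submodule k A := ⨆ μ ∈ (Λ : Set k), gen x μ
  have hBmem : ∀ μ ∈ Λ, gen x μ ≤ B := fun μ hμ ↦ le_biSup (gen x) hμ
  have hBmul : ∀ p ∈ B, ∀ q ∈ B, p * q ∈ B := by
    intro p hp q hq
    rw [← Submodule.mem_toAddSubmonoid] at hp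
    have h1 : B * B ≤ B := by
      rw [Submodule.iSup_mul]
      refine iSup_le fun μ ↦ ?_
      rw [Submodule.iSup_mul]
      refine iSup_le fun hμ ↦ ?_
      rw [Submodule.mul_iSup]
      refine iSup_le fun ν ↦ ?_
      rw [Submodule.mul_iSup]
      refine iSup_le fun hν ↦ Submodule.mul_le.2 fun a ha b hb ↦ ?_
      exact hBmem _ (Λ.add_mem hμ hν) (mul_mem_gen hx ha hb)
    exact h1 (Submodule.mul_mem_mul hp hq)
  have hBone : (1 : A) ∈ B := hBmem 0 Λ.zero_mem (one_mem_gen hx)
  have hBtop : B = ⊤ := eq_top_iff.2 fun a htriv ↦ by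
    clear htriv
    have ha : a ∈ Algebra.adjoin k (s : Set A) := hs ▸ trivial
    induction ha using Algebra.adjoin_induction with
    | mem y hy =>
      refine (show ⨆ μ ∈ t y, gen x μ ≤ B from iSup₂_le fun μ hμ ↦ hBmem μ ?_) (ht y)
      exact AddSubgroup.subset_closure (Finset.mem_coe.2 (Finset.mem_biUnion.2 ⟨y, hy, hμ⟩))
    | algebraMap r => rw [Algebra.algebraMap_eq_smul_one]; exact B.smul_mem r hBone
    | add p q _ _ hp hq => exact B.add_mem hp hq
    | mul p q _ _ hp hq => exact hBmul p hp q hq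
  have hWΛ : ∀ μ ∈ W, μ ∈ Λ := fun μ ⟨b, hb, hεb⟩ ↦ by
    by_contra hμ
    have hd : Disjoint (gen x μ) B := (iSupIndep_gen x).disjoint_biSup hμ
    rw [hBtop, disjoint_top] at hd
    rw [hd, Submodule.mem_bot] at hb
    exact hεb (by rw [hb, map_zero])
  -- a projection of the weights to the integers
  obtain ⟨ℓ, hℓ, -⟩ := Submodule.exists_dual_map_eq_bot_of_notMem (R := ℚ) (p := (⊥ : Submodule ℚ k))
    (by simpa using hμ₀) inferInstance
  let N : ℕ := T.prod fun w ↦ (ℓ w).den
  have hN : N ≠ 0 := Finset.prod_ne_zero_iff.2 fun w _ ↦ (ℓ w).den_ne_zero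
  let n : k → ℤ := fun μ ↦ ((N : ℚ) * ℓ μ).num
  have hnΛ : ∀ μ ∈ Λ, (n μ : ℚ) = (N : ℚ) * ℓ μ := by
    intro μ hμ
    suffices ∃ z : ℤ, (N : ℚ) * ℓ μ = z by
      obtain ⟨z, hz⟩ := this
      simp only [n, hz, Rat.num_intCast]
    induction hμ using AddSubgroup.closure_induction with
    | mem w hw =>
      obtain ⟨c, hc⟩ : (ℓ w).den ∣ N := Finset.dvd_prod_of_mem _ hw
      refine ⟨(ℓ w).num * c, ?_⟩
      rw [hc, Nat.cast_mul, mul_comm ((ℓ w).den : ℚ), mul_assoc, mul_comm ((ℓ w).den : ℚ), Rat.mul_den_eq_num,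
        Int.cast_mul, Int.cast_natCast, mul_comm]
    | zero => exact ⟨0, by simp⟩
    | add a b _ _ ha hb =>
      obtain ⟨za, hza⟩ := ha
      obtain ⟨zb, hzb⟩ := hb
      exact ⟨za + zb, by rw [map_add, mul_add, hza, hzb, Int.cast_add]⟩
    | neg a _ ha =>
      obtain ⟨za, hza⟩ := ha
      exact ⟨-za, by rw [map_neg, mul_neg, hza, Int.cast_neg]⟩
  let H : AddSubgroup ℤ := AddSubgroup.closure (n '' W)
  obtain ⟨d, hd⟩ := Int.subgroup_cyclic H
  have hdvd : ∀ μ ∈ W, d ∣ n μ := fun μ hμ ↦ by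
    have : n μ ∈ H := AddSubgroup.subset_closure ⟨μ, hμ, rfl⟩
    rw [hd, AddSubgroup.mem_closure_singleton] at this
    obtain ⟨z, hz⟩ := this
    exact ⟨z, by rw [← hz, zsmul_eq_mul, Int.cast_id, mul_comm]⟩
  have hd0 : d ≠ 0 := by
    rintro rfl
    have h1 := hdvd μ₀ hμ₀W
    rw [zero_dvd_iff] at h1
    have h2 := hnΛ μ₀ (hWΛ μ₀ hμ₀W)
    rw [h1, Int.cast_zero] at h2
    exact hℓ ((mul_eq_zero.1 h2.symm).resolve_left (Nat.cast_ne_zero.2 hN))
  let m : k → ℤ := fun μ ↦ n μ / d
  have hmadd : ∀ μ ∈ W, ∀ ν ∈ W, m (μ + ν) = m μ + m ν := fun μ hμ ν hν ↦ by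
    have e : n (μ + ν) = n μ + n ν := by
      have h1 := hnΛ _ (Λ.add_mem (hWΛ μ hμ) (hWΛ ν hν))
      rw [map_add, mul_add, ← hnΛ μ (hWΛ μ hμ), ← hnΛ ν (hWΛ ν hν), ← Int.cast_add, Int.cast_inj] at h1
      exact h1
    simp only [m, e]
    exact Int.add_ediv_of_dvd_left (hdvd μ hμ)
  have hm0 : m 0 = 0 := by simp [m, n]
  -- the homomorphism
  obtain ⟨Φ, hΦ'⟩ := exists_linear x (fun μ ↦
    (LinearMap.toSpanSingleton k (Laur₁ k) (tpow (m μ))) ∘ₗ (CoalgebraStruct.counit (R := k) (A := A)))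
  have hΦ : ∀ μ, ∀ b ∈ gen x μ, Φ b = ε b • tpow (m μ) := hΦ'
  have hΦmul : ∀ p q, Φ (p * q) = Φ p * Φ q := by
    intro p
    refine gen_induction x (P := fun p ↦ ∀ q, Φ (p * q) = Φ p * Φ q) (fun μ b hb ↦ ?_) ?_ (fun b c hb hc ↦ ?_) p
    · intro q
      refine gen_induction x (P := fun q ↦ Φ (b * q) = Φ b * Φ q) (fun ν c hc ↦ ?_) ?_ (fun c c' hc hc' ↦ ?_) q
      · rw [hΦ _ _ (mul_mem_gen hx hb hc), hΦ μ b hb, hΦ ν c hc, smul_mul_smul_comm, Bialgebra.counit_mul, tpow_mul]
        by_cases h1 : ε b = 0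
        · simp [h1]
        by_cases h2 : ε c = 0
        · simp [h2]
        rw [hmadd μ ⟨b, hb, h1⟩ ν ⟨c, hc, h2⟩]
      · simp
      · simp only [mul_add, map_add, hc, hc']
    · intro q; simp
    · intro q; simp only [add_mul, map_add, hb q, hc q]
  have hΦ1 : Φ 1 = 1 := by rw [hΦ 0 1 (one_mem_gen hx), Bialgebra.counit_one, one_smul, hm0, tpow_zero]
  let φ : A →ₐ[k] Laur₁ k := AlgHom.ofLinearMap Φ hΦ1 hΦmul
  have hcounit : (Bialgebra.counitAlgHom k (Laur₁ k)).comp φ = Bialgebra.counitAlgHom k A := AlgHom.ext fun a ↦ by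
    show CoalgebraStruct.counit (R := k) (Φ a) = ε a
    refine gen_induction x (P := fun a ↦ CoalgebraStruct.counit (R := k) (Φ a) = ε a)
      (fun μ b hb ↦ ?_) (by simp) (fun b c hb hc ↦ by simp only [map_add, hb, hc]) a
    rw [hΦ μ b hb, map_smul, counit_tpow, smul_eq_mul, mul_one]
  have hcomul : (Algebra.TensorProduct.map φ φ).comp (Bialgebra.comulAlgHom k A) =
      (Bialgebra.comulAlgHom k (Laur₁ k)).comp φ := AlgHom.ext fun a ↦ by
    show Algebra.TensorProduct.map φ φ (CoalgebraStruct.comul (R := k) a) = CoalgebraStruct.comul (R := k) (Φ a)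
    refine gen_induction x (P := fun a ↦ Algebra.TensorProduct.map φ φ (CoalgebraStruct.comul (R := k) a) =
      CoalgebraStruct.comul (R := k) (Φ a)) (fun μ b hb ↦ ?_) (by simp) (fun b c hb hc ↦ by simp only [map_add, hb, hc]) a
    let bA := Module.Basis.ofVectorSpace k A
    let e := TensorProduct.equivFinsuppOfBasisLeft (N := A) bA
    have hmem : ∀ i, e (CoalgebraStruct.comul (R := k) b) i ∈ gen x μ := fun i ↦ by
      have : e (CoalgebraStruct.comul (R := k) b) i = ComodLib.coeff (A := A) (bA.coord i) b := by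
        rw [ComodLib.coeff_apply]
        show _ = ComodLib.sliceL _ (CoalgebraStruct.comul (R := k) b)
        generalize CoalgebraStruct.comul (R := k) b = z
        induction z with
        | zero => simp
        | add x y hx hy => rw [map_add, Finsupp.add_apply, hx, hy, map_add]
        | tmul x a => simp [e, ComodLib.sliceL]
      rw [this]
      exact map_mem_gen ((ComodLib.coeff (bA.coord i)).restrictScalars k)
        (fun c ↦ (ComodLib.coeff (bA.coord i)).map_smul x c) hb
    have hz : CoalgebraStruct.comul (R := k) b = e.symm (e (CoalgebraStruct.comul (R := k) b)) :=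
      (e.symm_apply_apply _).symm
    have hb' : b = TensorProduct.rid k A (LinearMap.lTensor A ε (CoalgebraStruct.comul (R := k) b)) := by
      rw [Coalgebra.lTensor_counit_comul]; simp
    conv_rhs => rw [hΦ μ b hb, map_smul, comul_tpow, TensorProduct.smul_tmul', ← hΦ μ b hb, hb']
    rw [hz, TensorProduct.equivFinsuppOfBasisLeft_symm_apply, Finsupp.sum, map_sum, map_sum, map_sum, map_sum,
      TensorProduct.sum_tmul]
    refine Finset.sum_congr rfl fun i _ ↦ ?_
    simp only [Algebra.TensorProduct.map_tmul, LinearMap.lTensor_tmul, TensorProduct.rid_tmul, map_smul]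
    rw [show φ (e (CoalgebraStruct.comul (R := k) b) i) = _ from hΦ μ _ (hmem i), TensorProduct.tmul_smul,
      TensorProduct.smul_tmul']
    rfl
  refine ⟨BialgHom.ofAlgHom φ hcounit hcomul, ?_⟩
  let ψ : A →ₐc[k] Laur₁ k := BialgHom.ofAlgHom φ hcounit hcomul
  have hS : ∀ a, φ (HopfAlgebraStruct.antipode (R := k) a) = HopfAlgebraStruct.antipode (R := k) (φ a) := fun a ↦
    Groth.Agent.DiagHopf.bialgHom_antipode ψ a
  have hW : ∀ z ∈ H, d ∣ z ∧ tpow (k := k) (z / d) ∈ φ.range ∧ tpow (k := k) (-(z / d)) ∈ φ.range := by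
    intro z hz
    induction hz using AddSubgroup.closure_induction with
    | mem z hz =>
      obtain ⟨μ, hμ', rfl⟩ := hz
      obtain ⟨b, hb, hεb⟩ := id hμ'
      have h1 : tpow (k := k) (m μ) ∈ φ.range := ⟨(ε b)⁻¹ • b, by
        show Φ ((ε b)⁻¹ • b) = _
        rw [map_smul, hΦ μ b hb, smul_smul, inv_mul_cancel₀ hεb, one_smul]⟩
      refine ⟨hdvd μ hμ', h1, ?_⟩
      obtain ⟨a, ha⟩ := h1
      refine ⟨HopfAlgebraStruct.antipode (R := k) a, ?_⟩
      show φ _ = _
      rw [hS, show φ a = _ from ha, antipode_tpow]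
    | zero => exact ⟨dvd_zero d, by simp [tpow_zero], by simp [tpow_zero]⟩
    | add p q _ _ hp hq =>
      refine ⟨dvd_add hp.1 hq.1, ?_, ?_⟩
      · rw [Int.add_ediv_of_dvd_left hp.1, ← tpow_mul]; exact φ.range.mul_mem hp.2.1 hq.2.1
      · rw [Int.add_ediv_of_dvd_left hp.1, neg_add, ← tpow_mul]; exact φ.range.mul_mem hp.2.2 hq.2.2
    | neg p _ hp =>
      refine ⟨dvd_neg.2 hp.1, ?_, ?_⟩
      · rw [Int.neg_ediv_of_dvd hp.1]; exact hp.2.2
      · rw [Int.neg_ediv_of_dvd hp.1, neg_neg]; exact hp.2.1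
  have hall : ∀ z : ℤ, tpow (k := k) z ∈ φ.range := fun z ↦ by
    have hz : z * d ∈ H := by
      rw [hd, AddSubgroup.mem_closure_singleton]
      exact ⟨z, by rw [zsmul_eq_mul, Int.cast_id]⟩
    have := (hW _ hz).2.1
    rwa [Int.mul_ediv_cancel _ hd0] at this
  intro y
  show y ∈ φ.range
  induction y using MonoidAlgebra.induction_linear with
  | zero => exact φ.range.zero_mem
  | add p q hp hq => exact φ.range.add_mem hp hq
  | single g c =>
    have : MonoidAlgebra.single g c = c • tpow (k := k) (Multiplicative.toAdd g 0) := by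
      rw [tpow, MonoidAlgebra.smul_single, smul_eq_mul, mul_one]
      congr 1
      refine Multiplicative.toAdd.injective (funext fun i ↦ ?_)
      rw [Subsingleton.elim i 0]
      rfl
    rw [this]
    exact φ.range.smul_mem (hall _) c

end RedCharZeroLib

end
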