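import Groth.Agent.TorusFieldLib.Scheme
import Groth.Agent.DiagRepLib.Scheme
import Groth.Prelude
import Mathlib.FieldTheory.IsAlgClosed.Basic

/-!
# Tori over algebraically closed fields are spectra of group algebras
-/

set_option autoImplicit false
set_option backward.isDefEq.respectTransparency false
set_option linter.style.haveILetI false
set_option maxHeartbeats 1000000

noncomputable section

universe u v v' u'

open CategoryTheory CategoryTheory.Limits MonoidalCategory CartesianMonoidalCategory AlgebraicGeometry CoactBr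
open scoped MonObj TensorProduct

namespace RedCharZeroLib

/-- Natural transformations of monoidal functors between cartesian categories give monoid homomorphisms. -/
theorem isMonHom_natApp {C : Type u} [Category.{v} C] [MonoidalCategory C] {D : Type u'} [Category.{v'} D]
    [MonoidalCategory D] {F G : C ⥤ D} [F.Monoidal] [G.Monoidal] (α : F ⟶ G) [NatTrans.IsMonoidal α] (M : C)
    [MonObj M] :
    letI : MonObj (F.obj M) := Functor.monObjObj M
    letI : MonObj (G.obj M) := Functor.monObjObj M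
    IsMonHom (α.app M) := by
  letI : MonObj (F.obj M) := Functor.monObjObj M
  letI : MonObj (G.obj M) := Functor.monObjObj M
  refine { one_hom := ?_, mul_hom := ?_ }
  · rw [Functor.obj.η_def, Functor.obj.η_def, Category.assoc, α.naturality, NatTrans.IsMonoidal.unit_assoc]
  · rw [Functor.obj.μ_def, Functor.obj.μ_def, Category.assoc, α.naturality, NatTrans.IsMonoidal.tensor_assoc]

theorem exists_bc_comp {S S' S'' : Scheme.{u}} (g : S'' ⟶ S') (f : S' ⟶ S) (T : Over S) [GrpObj T] :
    ∃ e : Red.bc (g ≫ f) T ≅ Red.bc g (Red.bc f T), IsMonHom e.hom := by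
  refine ⟨(Over.pullbackComp g f).app T, ?_⟩
  have h := isMonHom_natApp (Over.pullbackComp g f).hom T
  refine { one_hom := ?_, mul_hom := ?_ }
  · have := h.one_hom
    simpa [Functor.obj.η_def] using this
  · have := h.mul_hom
    simpa [Functor.obj.μ_def] using this

set_option backward.isDefEq.respectTransparency true in
theorem exists_DS_bc {S' S'' : Scheme.{u}} (g : S'' ⟶ S') (M : Type) [AddCommGroup M] :
    ∃ e : Red.DS S'' M ≅ Red.bc g (Red.DS S' M), IsMonHom e.hom := by
  have h := exists_bc_comp g (Limits.IsTerminal.from specULiftZIsTerminal S') (Red.diag (ULift.{u} ℤ) M)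
  rwa [show g ≫ Limits.IsTerminal.from specULiftZIsTerminal S' =
    Limits.IsTerminal.from specULiftZIsTerminal S'' from specULiftZIsTerminal.hom_ext _ _] at h

set_option backward.isDefEq.respectTransparency true in
theorem exists_split_at {S S' S'' : Scheme.{u}} (g : S'' ⟶ S') (f : S' ⟶ S) (T : Over S) [GrpObj T] (M : Type)
    [AddCommGroup M] (e : Grp.mk (Red.bc f T) ≅ Grp.mk (Red.DS S' M)) :
    ∃ ψ : Red.bc (g ≫ f) T ⟶ Red.DS S'' M, IsMonHom ψ ∧ IsIso ψ := by
  obtain ⟨e2, he2⟩ := exists_DS_bc g M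
  obtain ⟨θ, hθ⟩ := exists_bc_comp g f T
  let j : Red.bc g (Red.bc f T) ≅ Red.bc g (Red.DS S' M) :=
    (Over.pullback g).mapIso ((Grp.forget _).mapIso e)
  haveI : IsMonHom e.hom.hom.hom := e.hom.hom.isMonHom_hom
  haveI : IsMonHom j.hom :=
    @Functor.map.instIsMonHom _ _ _ _ _ _ (Over.pullback g) _ _ _ _ _ e.hom.hom.hom _
  haveI := hθ
  haveI := he2
  exact ⟨(θ ≪≫ j ≪≫ e2.symm).hom, inferInstanceAs (IsMonHom (θ.hom ≫ j.hom ≫ e2.inv)), inferInstance⟩

variable {k : Type u} [Field k] [IsAlgClosed k]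

open Groth.Agent in
theorem exists_laurent_iso {T : Over (Spec (CommRingCat.of k))} [GrpObj T] (hT : Red.IsTorus T) :
    ∃ (r : ℕ) (v : sp k (MonoidAlgebra k (Multiplicative (Fin r → ℤ))) ≅ T), IsMonHom v.hom ∧ IsMonHom v.inv := by
  obtain ⟨S', f, -, hfs, -, hloc⟩ := hT
  obtain ⟨s', -⟩ := hfs.surj (IsLocalRing.closedPoint k)
  obtain ⟨U, hU, r, ⟨e⟩⟩ := hloc s'
  let u : U.toScheme := ⟨s', hU⟩
  let L : Type u := U.toScheme.residueField u
  let g : Spec (CommRingCat.of L) ⟶ U.toScheme := U.toScheme.fromSpecResidueField u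
  letI : Algebra k L := (Spec.preimage (g ≫ U.ι ≫ f)).hom.toAlgebra
  have hh : Spec.map (CommRingCat.ofHom (algebraMap k L)) = g ≫ U.ι ≫ f := Spec.map_preimage _
  have hsplit : Red.IsSplitTorusWith (Fin r → ℤ) (Red.bc (DiagRep.baseHom k L) T) := by
    show Red.IsSplitTorusWith (Fin r → ℤ) (Red.bc (Spec.map (CommRingCat.ofHom (algebraMap k L))) T)
    rw [hh]
    obtain ⟨ψ, h1, h2⟩ := exists_split_at g (U.ι ≫ f) T _ e
    haveI := h1; haveI := h2
    exact ⟨Grp.mkIso (asIso ψ) (IsMonHom.one_hom ψ) (IsMonHom.mul_hom ψ)⟩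
  obtain ⟨A, _, _, v, hv, hv', ⟨E⟩⟩ := TorusField.exists_torus_rep T k ⟨L, inferInstance, inferInstance, hsplit⟩
  let ld : k ⊗[k] A ≃ₐ[k] A := Algebra.TensorProduct.lid k A
  have hld : ∀ x, E.e x = (1 : k) ⊗ₜ[k] ld (E.e x) := fun x => by
    conv_lhs => rw [← ld.symm_apply_apply (E.e x)]
    rfl
  have h2 : ∀ x, CoalgebraStruct.comul (R := k) (ld (E.e x)) = ld (E.e x) ⊗ₜ[k] ld (E.e x) := fun x => by
    have h := (E.gl x).1
    rw [hld x] at h
    have h' := congrArg (Algebra.TensorProduct.lid k (A ⊗[k] A)) h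
    simpa [TorusField.D, TorusField.J₁, TorusField.J₂, Algebra.TensorProduct.tmul_mul_tmul] using h'
  have h3 : ∀ x, CoalgebraStruct.counit (R := k) (ld (E.e x)) = 1 := fun x => by
    have h := (E.gl x).2
    rw [hld x] at h
    simpa [TorusField.ev1] using h
  let B : DiagRep.GLBasis k (Fin r → ℤ) A := ⟨E.e.map ld.toLinearEquiv,
    by rw [Module.Basis.map_apply, E.e_zero]; exact map_one ld,
    fun a b => by simp only [Module.Basis.map_apply, E.e_add]; exact (map_mul ld _ _).symm,
    fun a => by rw [Module.Basis.map_apply]; exact h2 a, fun a => by rw [Module.Basis.map_apply]; exact h3 a⟩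
  obtain ⟨w, hw, hw'⟩ := TorusField.exists_iso_of_basis B (DiagRep.monoidAlgebraBasis k (Fin r → ℤ))
  refine ⟨r, w ≪≫ v, ?_, ?_⟩
  · dsimp only [Iso.trans_hom]; infer_instance
  · dsimp only [Iso.trans_inv]; infer_instance

/-- Laurent polynomials. -/
abbrev Laur (k : Type u) [Field k] (r : ℕ) : Type u := MonoidAlgebra k (Multiplicative (Fin r → ℤ))

end RedCharZeroLib
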