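import Groth.Agent.RedCharZeroLib.Kernel
import Groth.Agent.RedCharZeroLib.Torus
import Groth.Agent.HopfPointsLib.Scheme
import Groth.Agent.TorusFieldLib.Scheme
import Groth.Agent.RedCharZeroLib.TorusSplit
import Mathlib.Algebra.Lie.Nilpotent

/-!
# Groups without subtori are unipotent, and linearly reductive groups are reductive

In characteristic zero over an algebraically closed field.
-/

set_option autoImplicit false
set_option backward.isDefEq.respectTransparency false

noncomputable section

universe u v w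

open CategoryTheory MonoidalCategory CartesianMonoidalCategory AlgebraicGeometry
open TensorProduct HopfRep WithConv CoactBr
open scoped ComodLib MonObj

namespace RedCharZeroLib

attribute [local instance 100] LieRing.ofAssociativeRing
attribute [-instance] CategoryTheory.Hom.commGroup

variable {k : Type u} [Field k] {A : Type u} [CommRing A] [HopfAlgebra k A]

local notation "𝔸" => ComodLib.Dual' k A
local notation "ε" => CoalgebraStruct.counit (R := k) (A := A)

/-- A split torus of rank one is a torus. -/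
theorem isTorus_laur : Red.IsTorus (sp k (Laur₁ k)) := by
  obtain ⟨w, hw, -⟩ := Groth.Agent.TorusField.exists_DS_iso k (Fin 1 → ℤ)
  haveI := hw
  refine ⟨_, 𝟙 (Spec (CommRingCat.of k)), inferInstance, inferInstance, fun V hV => ⟨V, hV.isCompact, by simp⟩,
    fun s => ?_⟩
  refine ⟨⊤, trivial, 1, ?_⟩
  let f := ((⊤ : (Spec (CommRingCat.of k)).Opens).ι ≫ 𝟙 (Spec (CommRingCat.of k)))
  obtain ⟨e2, he2⟩ := RedCharZeroLib.exists_DS_bc f (Fin 1 → ℤ)
  haveI := he2
  haveI : IsMonHom ((Over.pullback f).mapIso w).hom :=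
    @Functor.map.instIsMonHom _ _ _ _ _ _ (Over.pullback f) _ _ _ _ _ w.hom _
  let j := (Over.pullback f).mapIso w ≪≫ e2.symm
  haveI : IsMonHom j.hom := by dsimp only [j, Iso.trans_hom, Iso.symm_hom]; infer_instance
  exact ⟨Grp.mkIso j (IsMonHom.one_hom j.hom) (IsMonHom.mul_hom j.hom)⟩

variable [IsAlgClosed k] [CharZero k] [Algebra.FiniteType k A]

theorem exists_pow_smul_eq_zero (h : Red.HasNoSubtorus k (sp k A)) {x : 𝔸} (hx : IsDer x) (a : A) :
    ∃ n : ℕ, x ^ n • a = 0 := by
  by_contra! hne
  obtain ⟨φ, hφ⟩ := exists_surjective_laurent hx fun h' ↦ by obtain ⟨n, hn⟩ := h' a; exact hne n hn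
  haveI : IsMonHom (pt (φ : A →ₐ[k] Laur₁ k)) := SekSuwa.isMonHom_specHom φ
  haveI : Mono (pt (φ : A →ₐ[k] Laur₁ k)) := Groth.Agent.DiagRep.mono_of_isClosedImmersion _ (by
    rw [pt_left]
    exact IsClosedImmersion.spec_of_surjective _ hφ)
  have htriv := h (sp k (Laur₁ k)) (pt (φ : A →ₐ[k] Laur₁ k)) isTorus_laur
  haveI : IsIso (Spec.map (CommRingCat.ofHom (algebraMap k (Laur₁ k)))) := htriv
  haveI : IsIso (CommRingCat.ofHom (algebraMap k (Laur₁ k))) := by
    haveI : IsIso (Scheme.Spec.map (CommRingCat.ofHom (algebraMap k (Laur₁ k))).op) := htriv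
    haveI := isIso_of_reflects_iso (CommRingCat.ofHom (algebraMap k (Laur₁ k))).op Scheme.Spec
    exact isIso_of_op _
  obtain ⟨c, hc⟩ := (ConcreteCategory.bijective_of_isIso (CommRingCat.ofHom (algebraMap k (Laur₁ k)))).2 (tpow 1)
  have h1 : algebraMap k (Laur₁ k) c = tpow 1 := hc
  have hne1 : (Multiplicative.ofAdd fun _ : Fin 1 ↦ (1 : ℤ)) ≠ 1 := fun h ↦ by
    have := congrFun (congrArg Multiplicative.toAdd h) 0
    simp at this
  have h1' : (MonoidAlgebra.single 1 c : Laur₁ k) = MonoidAlgebra.single (Multiplicative.ofAdd fun _ ↦ (1 : ℤ)) 1 := by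
    rw [← show algebraMap k (Laur₁ k) c = MonoidAlgebra.single 1 c from by simp [MonoidAlgebra.coe_algebraMap]]
    exact h1
  have h2 : (Finsupp.single (1 : Multiplicative (Fin 1 → ℤ)) c : Multiplicative (Fin 1 → ℤ) →₀ k)
      (Multiplicative.ofAdd fun _ ↦ (1 : ℤ)) = (Finsupp.single (Multiplicative.ofAdd fun _ : Fin 1 ↦ (1 : ℤ)) (1 : k) :
      Multiplicative (Fin 1 → ℤ) →₀ k) (Multiplicative.ofAdd fun _ ↦ (1 : ℤ)) :=
    congrArg (fun y : Laur₁ k ↦ (MonoidAlgebra.basis (Multiplicative (Fin 1 → ℤ)) k).repr y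
      (Multiplicative.ofAdd fun _ ↦ (1 : ℤ))) h1'
  rw [Finsupp.single_eq_same, Finsupp.single_eq_of_ne hne1] at h2
  exact zero_ne_one h2

theorem exists_pow_smul_eq_zero' (h : Red.HasNoSubtorus k (sp k A)) {x : 𝔸} (hx : IsDer x)
    {V : Type w} [AddCommGroup V] [Module k V] [Comod k A V] [Module.Finite k V] (v : V) :
    ∃ n : ℕ, x ^ n • v = 0 := by
  classical
  let b := Module.finBasis k V
  choose n hn using fun i ↦ exists_pow_smul_eq_zero h hx (ComodLib.coeff (A := A) (b.coord i) v)
  refine ⟨Finset.univ.sup n, b.ext_elem fun i ↦ ?_⟩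
  rw [map_zero, Finsupp.zero_apply]
  show b.coord i _ = 0
  rw [← ComodLib.counit_coeff (A := A) (b.coord i), LinearMap.map_smul]
  obtain ⟨j, hj⟩ := Nat.exists_eq_add_of_le (Finset.le_sup (f := n) (Finset.mem_univ i))
  rw [hj, add_comm, pow_add, mul_smul, hn i, smul_zero, map_zero]

/-- A connected group without subtori is unipotent. -/
theorem isUnipotent_of_hasNoSubtorus [IsDomain A] (h : Red.HasNoSubtorus k (sp k A)) : IsUnipotent k A := by
  haveI : IsNoetherianRing A := Algebra.FiniteType.isNoetherianRing k A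
  intro V _ _ cV hV hnt
  let ρ : lieAlg k A →ₗ⁅k⁆ Module.End k V := (Algebra.lsmul k k V).toLieHom.comp (lieAlg k A).incl
  letI := LieRingModule.compLieHom V ρ
  haveI := LieModule.compLieHom V ρ
  haveI : LieModule.IsNilpotent (lieAlg k A) V := by
    rw [LieModule.isNilpotent_iff_forall' (R := k)]
    intro x
    rw [Module.End.isNilpotent_iff_of_finite]
    intro v
    obtain ⟨n, hn⟩ := exists_pow_smul_eq_zero' h x.2 v
    refine ⟨n, ?_⟩
    have e : ∀ j, ((LieModule.toEnd k (lieAlg k A) V x) ^ j) v = (x : 𝔸) ^ j • v := by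
      intro j
      induction j with
      | zero => rw [pow_zero, pow_zero, Module.End.one_apply, one_smul]
      | succ j ih => rw [pow_succ', pow_succ', Module.End.mul_apply, ih, mul_smul]; rfl
    rw [e, hn]
  haveI := LieModule.nontrivial_max_triv_of_isNilpotent (R := k) (L := lieAlg k A) (M := V)
  obtain ⟨⟨v, hv⟩, hv0⟩ := exists_ne (0 : LieModule.maxTrivSubmodule k (lieAlg k A) V)
  intro hbot
  have : v ∈ fixedPts k A V := mem_fixedPts_of_lie fun y hy ↦ (LieModule.mem_maxTrivSubmodule _ _ _ _).1 hv ⟨y, hy⟩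
  rw [hbot, Submodule.mem_bot] at this
  exact hv0 (Subtype.ext this)

omit [IsAlgClosed k] [CharZero k] [Algebra.FiniteType k A] in
/-- Restriction of a comodule along a bialgebra map. -/
@[reducible] def pushComod {B : Type u} [CommRing B] [HopfAlgebra k B] (π : A →ₐc[k] B) (V : Type w) [AddCommGroup V]
    [Module k V] [Comod k A V] : Comod k B V where
  coact := LinearMap.lTensor V (π : A →ₗ[k] B) ∘ₗ Comod.coact (k := k) (A := A)
  coassoc := by
    refine LinearMap.ext fun v ↦ ?_
    have key : ∀ z : V ⊗[k] A,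
        TensorProduct.assoc k V B B ((LinearMap.lTensor V (π : A →ₗ[k] B) ∘ₗ Comod.coact (k := k) (A := A)).rTensor B
          (LinearMap.lTensor V (π : A →ₗ[k] B) z)) =
        LinearMap.lTensor V (TensorProduct.map (π : A →ₗ[k] B) (π : A →ₗ[k] B))
          (TensorProduct.assoc k V A A ((Comod.coact (k := k) (A := A)).rTensor A z)) := fun z ↦ by
      induction z with
      | zero => simp
      | add x y hx hy => simp only [map_add, hx, hy]
      | tmul w a =>
        simp only [LinearMap.lTensor_tmul, LinearMap.rTensor_tmul, LinearMap.comp_apply]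
        generalize Comod.coact (k := k) (A := A) w = y
        induction y with
        | zero => simp [TensorProduct.zero_tmul]
        | add x y hx hy => simp only [map_add, add_tmul, hx, hy]
        | tmul p q => simp
    simp only [LinearMap.comp_apply, LinearEquiv.coe_coe]
    refine (key _).trans ?_
    rw [ComodLib.coassoc_apply]
    generalize Comod.coact (k := k) (A := A) v = z
    induction z with
    | zero => simp
    | add x y hx hy => simp only [map_add, hx, hy]
    | tmul w a =>
      simp only [LinearMap.lTensor_tmul]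
      congr 1
      exact CoalgHomClass.map_comp_comul_apply π a
  counit_comp := by
    refine LinearMap.ext fun v ↦ ?_
    have h := LinearMap.congr_fun (Comod.counit_comp (k := k) (A := A) (V := V)) v
    rw [LinearMap.comp_apply] at h
    refine Eq.trans ?_ h
    simp only [LinearMap.comp_apply]
    generalize Comod.coact (k := k) (A := A) v = z
    induction z with
    | zero => simp
    | add x y hx hy => simp only [map_add, hx, hy]
    | tmul w a =>
      simp only [LinearMap.lTensor_tmul]
      congr 1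
      exact CoalgHomClass.counit_comp_apply π a

omit [CharZero k] in
theorem eq_zero_of_forall_point [IsReduced A] {a : A} (h : ∀ g : A →ₐ[k] k, g a = 0) : a = 0 :=
  (Groth.Agent.UnipHopf.isNilpotent_of_forall_point h).eq_zero

omit [CharZero k] in
theorem smul_mem_of_points [IsReduced A] {V : Type w} [AddCommGroup V] [Module k V] [Comod k A V] {S : Submodule k V}
    (hS : ∀ g : A →ₐ[k] k, ∀ v ∈ S, (toConv g.toLinearMap : 𝔸) • v ∈ S) (f : 𝔸) {v : V} (hv : v ∈ S) : f • v ∈ S := by
  by_contra h
  obtain ⟨α, hα1, hα⟩ := Submodule.exists_dual_map_eq_bot_of_notMem h inferInstance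
  apply hα1
  rw [← ComodLib.counit_coeff (A := A) α, LinearMap.map_smul,
    eq_zero_of_forall_point (k := k) (a := ComodLib.coeff α v) fun g ↦ ?_, smul_zero, map_zero]
  show (toConv g.toLinearMap : 𝔸) (ComodLib.coeff α v) = 0
  rw [← ComodLib.counit_smul, ← LinearMap.map_smul, ComodLib.counit_coeff]
  have : α ((toConv g.toLinearMap : 𝔸) • v) ∈ S.map α := Submodule.mem_map_of_mem (hS g v hv)
  rwa [hα, Submodule.mem_bot] at this

theorem toConv_mul (g h : A →ₐ[k] k) :
    ((toConv g.toLinearMap : 𝔸) * toConv h.toLinearMap) = toConv (toConv g * toConv h).ofConv.toLinearMap := by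
  refine WithConv.ext (LinearMap.ext fun a ↦ ?_)
  show ((toConv g.toLinearMap : 𝔸) * toConv h.toLinearMap) a = (toConv g * toConv h) a
  rw [LinearMap.convMul_apply, AlgHom.convMul_apply]
  generalize CoalgebraStruct.comul (R := k) a = z
  induction z with
  | zero => simp
  | tmul p q => simp
  | add p q hp hq => simp only [map_add, hp, hq]

/-- A normal unipotent subgroup of a linearly reductive group is trivial. -/
theorem surjective_algebraMap_of_normal_unipotent (hG : IsLinearlyReductive k A) {B : Type u} [CommRing B]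
    [HopfAlgebra k B] (π : A →ₐc[k] B) (hπ : Function.Surjective π) (hB : IsUnipotent k B)
    (hnorm : AlgGrp.IsNormalHom (pt (π : A →ₐ[k] B))) : Function.Surjective (algebraMap k B) := by
  haveI : Algebra.FiniteType k B := Algebra.FiniteType.of_surjective (π : A →ₐ[k] B) hπ
  haveI : IsReduced A := Groth.Agent.GrpSchLib.HopfRed.isReduced_of_finiteType (k := k)
  haveI : IsReduced B := Groth.Agent.GrpSchLib.HopfRed.isReduced_of_finiteType (k := k)
  let F : (B →ₐ[k] k) → 𝔸 := fun q ↦ toConv (q.comp (π : A →ₐ[k] B)).toLinearMap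
  -- conjugates of points of the subgroup
  have hconj : ∀ (g : A →ₐ[k] k) (q : B →ₐ[k] k), ∃ q' : B →ₐ[k] k,
      (toConv g.toLinearMap : 𝔸) * F q = F q' * toConv g.toLinearMap := by
    intro g q
    obtain ⟨n', hn'⟩ := hnorm (sp k k) (pt g) (pt q)
    obtain ⟨q', rfl⟩ := Groth.Agent.DiagRep.exists_pt n'
    refine ⟨q', ?_⟩
    rw [mul_inv_eq_iff_eq_mul, ← pt_comp, ← pt_comp, Groth.Agent.DiagRep.pt_mul_conv,
      Groth.Agent.DiagRep.pt_mul_conv] at hn'
    simp only [F, toConv_mul, pt_injective hn']
  have key : ∀ (S : Type u) [AddCommGroup S] [Module k S] [Comod k A S], Module.Finite k S →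
      IsSemisimpleComod k A S → ∀ (q : B →ₐ[k] k) (v : S), F q • v = v := by
    intro S _ _ cS hSf hss q v
    let W : Submodule k S :=
      { carrier := {v | ∀ q : B →ₐ[k] k, F q • v = v}
        zero_mem' := fun q ↦ smul_zero _
        add_mem' := fun {a b} ha hb q ↦ by rw [smul_add, ha q, hb q]
        smul_mem' := fun c a ha q ↦ by rw [smul_comm, ha q] }
    have hW : IsSubcomod (k := k) (A := A) W := (ComodLib.isSubcomod_iff W).2 fun f _ hv ↦
      smul_mem_of_points (fun g w hw q ↦ by
        obtain ⟨g', hg'⟩ : ∃ g' : A →ₐ[k] k, (toConv g.toLinearMap : 𝔸) * toConv g'.toLinearMap = 1 ∧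
            (toConv g'.toLinearMap : 𝔸) * toConv g.toLinearMap = 1 := by
          refine ⟨g.comp (HopfAlgebra.antipodeAlgHom k A), ?_, ?_⟩ <;>
          · rw [toConv_mul]
            refine WithConv.ext ?_
            have h1 := mul_inv_cancel (pt g)
            have h2 := inv_mul_cancel (pt g)
            rw [pt_inv, Groth.Agent.DiagRep.pt_mul_conv, one_eq_pt] at h1 h2
            first
              | rw [pt_injective h1]; rfl
              | rw [pt_injective h2]; rfl
        obtain ⟨q', hq'⟩ := hconj g' q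
        have e : F q * toConv g.toLinearMap = toConv g.toLinearMap * F q' := by
          calc F q * toConv g.toLinearMap
              = (toConv g.toLinearMap * toConv g'.toLinearMap) * F q * toConv g.toLinearMap := by rw [hg'.1, one_mul]
            _ = toConv g.toLinearMap * F q' * (toConv g'.toLinearMap * toConv g.toLinearMap) := by
                rw [mul_assoc (toConv g.toLinearMap : 𝔸), hq', ← mul_assoc, mul_assoc]
            _ = _ := by rw [hg'.2, mul_one]
        rw [← mul_smul, e, mul_smul, hw q']) f hv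
    obtain ⟨W', hW', hc⟩ := hss W hW
    suffices W' = ⊥ by
      have hv : v ∈ W := by
        have hh := hc.sup_eq_top
        rw [this, sup_bot_eq] at hh
        rw [hh]; trivial
      exact hv q
    by_contra h0
    letI cW' : Comod k A W' := ComodLib.subComod hW'
    letI cBW' : Comod k B W' := pushComod π W'
    haveI : Nontrivial W' := Submodule.nontrivial_iff_ne_bot.2 h0
    obtain ⟨w, hw, hw0⟩ := Submodule.exists_mem_ne_zero_of_ne_bot (hB W' inferInstance inferInstance)
    refine hw0 (Subtype.ext (Submodule.disjoint_def.1 hc.disjoint _ (fun q' ↦ ?_) w.2))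
    rw [← ComodLib.subComod_smul_coe hW']
    congr 1
    have hw' : LinearMap.lTensor W' (π : A →ₗ[k] B) (cW'.coact w) = w ⊗ₜ[k] (1 : B) := hw
    have h3 := congrArg (ComodLib.slice q'.toLinearMap) hw'
    rw [ComodLib.slice_tmul, show q'.toLinearMap (1 : B) = 1 from map_one q', one_smul] at h3
    refine Eq.trans ?_ h3
    rw [ComodLib.smul_eq]
    generalize Comod.coact (k := k) (A := A) w = z
    induction z with
    | zero => simp
    | tmul x a => simp [F]
    | add x y hx hy => simp only [map_add, hx, hy]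
  intro b
  obtain ⟨a, rfl⟩ := hπ b
  refine ⟨ε a, sub_eq_zero.1 (eq_zero_of_forall_point (k := k) fun q ↦ ?_)⟩
  let M : Submodule k A := (Submodule.span 𝔸 {a}).restrictScalars k
  haveI : Module.Finite k M := ComodLib.finite_span_singleton A a
  have hM := ComodLib.isSubcomod_restrictScalars (Submodule.span 𝔸 {a})
  letI cM : Comod k A M := ComodLib.subComod hM
  have h := key M inferInstance (hG M inferInstance) q ⟨a, Submodule.subset_span rfl⟩
  have h' : F q • a = a :=
    (ComodLib.subComod_smul_coe hM (F q) ⟨a, Submodule.subset_span rfl⟩).symm.trans (congrArg Subtype.val h)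
  rw [map_sub, AlgHom.commutes, sub_eq_zero]
  have h2 := congrArg (fun y : A ↦ ε y) h'
  simp only [ComodLib.counit_smul] at h2
  exact h2.symm

/-- Linearly reductive connected groups are reductive. -/
theorem isReductiveOver_of_isLinearlyReductive (hG : IsLinearlyReductive k A)
    (hc : ConnectedSpace ↥(Spec (CommRingCat.of A))) : Red.IsReductiveOver k (sp k A) := by
  haveI : LocallyOfFiniteType (sp k A).hom :=
    (HasRingHomProperty.Spec_iff (P := @LocallyOfFiniteType)).2
      (RingHom.finiteType_algebraMap.2 inferInstance)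
  haveI hA : IsAffine (sp k A).left := inferInstanceAs (IsAffine (Spec (CommRingCat.of A)))
  refine ⟨inferInstance, Groth.Agent.GrpSchLib.smooth_of_charZero (sp k A), hc, fun U _ i _ hi hUs hUc hN hU_or ↦ ?_⟩
  haveI := hi
  haveI : IsAffine U.left := isAffine_of_isAffineHom i.left
  obtain ⟨H, ⟨e⟩⟩ : (hopfSpec (CommRingCat.of k)).essImage (Grp.mk U) :=
    (essImage_hopfSpec (R := CommRingCat.of k) (G := Grp.mk U)).2 inferInstance
  let B := H.unop.X
  let v : sp k B ≅ U := (Grp.forget _).mapIso e
  haveI : IsMonHom v.hom := e.hom.hom.isMonHom_hom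
  haveI : IsMonHom v.inv := e.inv.hom.isMonHom_hom
  obtain ⟨φ, hφ⟩ := Groth.Agent.DiagRep.exists_pt (v.hom ≫ i)
  haveI : IsMonHom (pt φ) := by rw [← hφ]; infer_instance
  obtain ⟨π, hπ⟩ := Groth.Agent.HopfPoints.exists_bialgHom φ
  haveI : IsIso v.hom.left := (Over.forget _).map_isIso v.hom
  haveI : IsClosedImmersion (pt φ).left := by rw [← hφ, Over.comp_left]; infer_instance
  have hπs : Function.Surjective π := by
    have h2 : IsClosedImmersion (Spec.map (CommRingCat.ofHom φ.toRingHom)) := by rw [← pt_left]; infer_instance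
    haveI := h2
    have h3 := (IsClosedImmersion.isAffine_surjective_of_isAffine (f := Spec.map (CommRingCat.ofHom φ.toRingHom))).2
    intro b
    obtain ⟨y, hy⟩ := h3 ((Scheme.ΓSpecIso (CommRingCat.of B)).inv.hom b)
    refine ⟨(Scheme.ΓSpecIso (CommRingCat.of A)).hom.hom y, ?_⟩
    have h4 := RingHom.congr_fun (congrArg CommRingCat.Hom.hom
      (Scheme.ΓSpecIso_naturality (CommRingCat.ofHom φ.toRingHom))) y
    simp only [CommRingCat.hom_comp, RingHom.comp_apply] at h4
    rw [hy] at h4
    rw [show π ((Scheme.ΓSpecIso (CommRingCat.of A)).hom.hom y) = φ ((Scheme.ΓSpecIso (CommRingCat.of A)).hom.hom y) from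
      AlgHom.congr_fun hπ _]
    exact h4.symm.trans (RingHom.congr_fun (congrArg CommRingCat.Hom.hom
      (Scheme.ΓSpecIso (CommRingCat.of B)).inv_hom_id) b)
  haveI : Algebra.FiniteType k B := Algebra.FiniteType.of_surjective (π : A →ₐ[k] B) hπs
  haveI : Smooth (sp k B).hom := by
    rw [← Over.w v.hom]
    infer_instance
  have hBc : ConnectedSpace ↥(Spec (CommRingCat.of B)) :=
    (TopCat.homeoOfIso (Scheme.forgetToTop.mapIso (asIso v.hom.left))).symm.surjective.connectedSpace (by fun_prop)
  haveI : IsDomain B := isDomain_of_connected (k := k) inferInstance hBc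
  have hno : Red.HasNoSubtorus k (sp k B) := fun T _ j _ _ hT ↦ hU_or T (j ≫ v.hom) hT
  have hnorm : AlgGrp.IsNormalHom (pt (π : A →ₐ[k] B)) := fun T g n ↦ by
    obtain ⟨n', hn'⟩ := hN T g (n ≫ v.hom)
    refine ⟨n' ≫ v.inv, ?_⟩
    rw [hπ, ← hφ, Category.assoc, Iso.inv_hom_id_assoc, ← Category.assoc n]
    exact hn'
  have hsurj := surjective_algebraMap_of_normal_unipotent hG π hπs (isUnipotent_of_hasNoSubtorus hno) hnorm
  haveI : Nontrivial B := (Bialgebra.counitAlgHom k B).toRingHom.domain_nontrivial
  haveI : IsIso (CommRingCat.ofHom (algebraMap k B)) :=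
    (ConcreteCategory.isIso_iff_bijective _).2 ⟨(algebraMap k B).injective, hsurj⟩
  haveI : IsIso (sp k B).hom := inferInstanceAs (IsIso (Spec.map (CommRingCat.ofHom (algebraMap k B))))
  show IsIso U.hom
  rw [← Over.w v.inv]
  haveI : IsIso v.inv.left := (Over.forget _).map_isIso v.inv
  infer_instance

end RedCharZeroLib

end
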