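import Groth.Agent.RedCharZeroLib.Unipotent
import Groth.Agent.S18813
import Groth.Agent.S4619

/-!
# Reductive group schemes over a field of characteristic zero and linear reductivity
-/

set_option autoImplicit false
set_option backward.isDefEq.respectTransparency false

noncomputable section

universe u v w

open CategoryTheory MonoidalCategory CartesianMonoidalCategory AlgebraicGeometry
open TensorProduct HopfRep WithConv CoactBr
open scoped MonObj

namespace RedCharZeroLib

/-- Reductivity is invariant under isomorphisms of groups. -/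
theorem isReductiveOver_of_iso {K : Type u} [Field K] {G G' : Over (Spec (CommRingCat.of K))} [GrpObj G] [GrpObj G']
    (e : G ≅ G') [IsMonHom e.hom] (h : Red.IsReductiveOver K G) : Red.IsReductiveOver K G' := by
  obtain ⟨ha, hs, hc, hU⟩ := h
  haveI : IsMonHom e.inv := inferInstance
  haveI : IsIso e.hom.left := (Over.forget _).map_isIso e.hom
  haveI : IsIso e.inv.left := (Over.forget _).map_isIso e.inv
  haveI := ha
  refine ⟨IsAffine.of_isIso e.inv.left, ?_, ?_, fun U _ i _ hi hUs hUc hN hT ↦ ?_⟩
  · rw [← Over.w e.inv]
    infer_instance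
  · haveI := hc
    exact e.hom.left.surjective.connectedSpace e.hom.left.continuous
  · haveI := hi
    refine hU U (i ≫ e.inv) (by rw [Over.comp_left]; infer_instance) hUs hUc (fun T g n ↦ ?_) hT
    obtain ⟨n', hn'⟩ := hN T (g ≫ e.hom) n
    refine ⟨n', ?_⟩
    have h2 := congrArg (· ≫ e.inv) hn'
    simp only [MonObj.mul_comp, GrpObj.inv_comp, Category.assoc, Iso.hom_inv_id, Category.comp_id] at h2
    exact h2

variable {k : Type u} [Field k] [CharZero k] {A : Type u} [CommRing A] [HopfAlgebra k A]

omit [CharZero k] in
theorem finiteType_of_smooth (h : Smooth (sp k A).hom) : Algebra.FiniteType k A := by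
  have hs : Smooth (Spec.map (CommRingCat.ofHom (algebraMap k A))) := h
  haveI := hs
  have h2 : LocallyOfFiniteType (Spec.map (CommRingCat.ofHom (algebraMap k A))) := inferInstance
  exact RingHom.finiteType_algebraMap.1 ((HasRingHomProperty.Spec_iff (P := @LocallyOfFiniteType)).1 h2)

/-- A reductive group over a field of characteristic zero is linearly reductive. -/
theorem isLinearlyReductive_of_isReductive (h : Red.IsReductive (sp k A)) : IsLinearlyReductive k A := by
  haveI := finiteType_of_smooth h.2.1
  let s : (Spec (CommRingCat.of k) : Scheme.{u}) := IsLocalRing.closedPoint k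
  let K : Type u := AlgebraicClosure ((Spec (CommRingCat.of k)).residueField s)
  letI : Algebra k K := (Spec.preimage (Red.geomPt s)).hom.toAlgebra
  have hh : Groth.Agent.DiagRep.baseHom k K = Red.geomPt s := Spec.map_preimage _
  have h3 : Red.IsReductiveOver K (Red.bc (Red.geomPt s) (sp k A)) := h.2.2 s
  rw [← hh] at h3
  haveI : CharZero K := charZero_of_injective_algebraMap (algebraMap k K).injective
  haveI := Groth.Agent.DiagRep.isMonHom_bcHom k K A
  haveI : IsMonHom (asIso (Groth.Agent.DiagRep.bcHom k K A)).hom := Groth.Agent.DiagRep.isMonHom_bcHom k K A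
  have h4 := isReductiveOver_of_iso (asIso (Groth.Agent.DiagRep.bcHom k K A)) h3
  exact (Groth.Agent.S18813.result k K A).2 (isLinearlyReductive_of_isReductiveOver h4)

omit [CharZero k] in
/-- A connected affine group over a field is geometrically connected. -/
theorem geometricallyConnected_of_connected (hc : ConnectedSpace ↥(Spec (CommRingCat.of A))) :
    GeometricallyConnected (sp k A).hom := by
  let X : Scheme.{u} := Spec (CommRingCat.of A)
  let g : Spec (CommRingCat.of k) ⟶ X := Spec.map (CommRingCat.ofHom (Bialgebra.counitAlgHom k A).toRingHom)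
  have hg : g ≫ (sp k A).hom = 𝟙 _ := by
    show Spec.map _ ≫ Spec.map _ = _
    rw [← Spec.map_comp, ← CommRingCat.ofHom_comp]
    refine Eq.trans (congrArg (fun r => Spec.map (CommRingCat.ofHom r)) (AlgHom.comp_algebraMap (Bialgebra.counitAlgHom k A))) ?_
    exact Spec.map_id _
  obtain ⟨⟨x, ψ⟩, hψ⟩ : ∃ p, (Scheme.SpecToEquivOfField k X).symm p = g :=
    ⟨_, (Scheme.SpecToEquivOfField k X).symm_apply_apply g⟩
  have hψ' : Spec.map ψ ≫ X.fromSpecResidueField x = g := hψ
  let φ := Spec.preimage (X.fromSpecResidueField x ≫ (sp k A).hom)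
  have hφψ : φ ≫ ψ = 𝟙 _ := Spec.map_injective (by
    rw [Spec.map_comp, Spec.map_preimage, ← Category.assoc, hψ', hg, Spec.map_id])
  haveI : ConnectedSpace ↥(sp k A).left := hc
  refine Groth.Agent.S4619.result (sp k A).hom x ⟨φ.hom, Spec.map_preimage _, ?_⟩
  letI : Algebra k ((sp k A).left.residueField x) := φ.hom.toAlgebra
  refine eq_bot_iff.2 fun z _ ↦ IntermediateField.mem_bot.2 ⟨ψ.hom z, ψ.hom.injective ?_⟩
  exact RingHom.congr_fun (congrArg CommRingCat.Hom.hom hφψ) (ψ.hom z)

/-- A connected linearly reductive group over a field of characteristic zero is reductive. -/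
theorem isReductive_of_isLinearlyReductive [Algebra.FiniteType k A]
    (hc : ConnectedSpace ↥(Spec (CommRingCat.of A))) (hG : IsLinearlyReductive k A) : Red.IsReductive (sp k A) := by
  haveI : LocallyOfFiniteType (sp k A).hom :=
    (HasRingHomProperty.Spec_iff (P := @LocallyOfFiniteType)).2
      (RingHom.finiteType_algebraMap.2 inferInstance)
  haveI hA : IsAffine (sp k A).left := inferInstanceAs (IsAffine (Spec (CommRingCat.of A)))
  haveI : IsAffineHom (sp k A).hom := inferInstanceAs (IsAffineHom (Spec.map (CommRingCat.ofHom (algebraMap k A))))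
  refine ⟨inferInstance, Groth.Agent.GrpSchLib.smooth_of_charZero (sp k A), fun s ↦ ?_⟩
  let K : Type u := AlgebraicClosure ((Spec (CommRingCat.of k)).residueField s)
  letI : Algebra k K := (Spec.preimage (Red.geomPt s)).hom.toAlgebra
  have hh : Groth.Agent.DiagRep.baseHom k K = Red.geomPt s := Spec.map_preimage _
  show Red.IsReductiveOver K (Red.bc (Red.geomPt s) (sp k A))
  rw [← hh]
  haveI : CharZero K := charZero_of_injective_algebraMap (algebraMap k K).injective
  haveI := Groth.Agent.DiagRep.isMonHom_bcHom k K A
  haveI : IsMonHom (asIso (Groth.Agent.DiagRep.bcHom k K A)).hom := Groth.Agent.DiagRep.isMonHom_bcHom k K A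
  haveI : IsMonHom (asIso (Groth.Agent.DiagRep.bcHom k K A)).symm.hom := by
    dsimp only [Iso.symm_hom]; infer_instance
  refine isReductiveOver_of_iso (asIso (Groth.Agent.DiagRep.bcHom k K A)).symm
    (isReductiveOver_of_isLinearlyReductive ((Groth.Agent.S18813.result k K A).1 hG) ?_)
  haveI := geometricallyConnected_of_connected (k := k) hc
  haveI : ConnectedSpace ↥(Limits.pullback (sp k A).hom (Groth.Agent.DiagRep.baseHom k K)) :=
    GeometricallyConnected.geometrically_connectedSpace _ _ _ (.of_hasPullback _ _)
  haveI : IsIso (Groth.Agent.DiagRep.bcHom k K A).left := (Over.forget _).map_isIso (Groth.Agent.DiagRep.bcHom k K A)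
  haveI : ConnectedSpace ↥((Over.pullback (Groth.Agent.DiagRep.baseHom k K)).obj (sp k A)).left :=
    ‹ConnectedSpace ↥(Limits.pullback (sp k A).hom (Groth.Agent.DiagRep.baseHom k K))›
  exact (Groth.Agent.DiagRep.bcHom k K A).left.surjective.connectedSpace
    (Groth.Agent.DiagRep.bcHom k K A).left.continuous

end RedCharZeroLib

end
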