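import Groth.Agent.RedCharZeroLib.Lie
import Mathlib.Algebra.DirectSum.Module
import Mathlib.LinearAlgebra.Eigenspace.Triangularizable

/-!
# Generalised eigenspaces of a point derivation on the coordinate ring
-/

set_option autoImplicit false

noncomputable section

universe u v w

open TensorProduct HopfRep WithConv
open scoped ComodLib

namespace RedCharZeroLib

variable {k : Type u} [Field k] {A : Type v} [CommRing A] [HopfAlgebra k A]

local notation "𝔸" => ComodLib.Dual' k A
local notation "ε" => CoalgebraStruct.counit (R := k) (A := A)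

/-- The generalised eigenspaces of the invariant derivation of a point derivation. -/
def gen (x : 𝔸) (μ : k) : Submodule k A := Module.End.maxGenEigenspace (Algebra.lsmul k k A x) μ

theorem iSup_gen [IsAlgClosed k] (x : 𝔸) : iSup (gen x) = ⊤ := by
  rw [eq_top_iff]
  intro b _
  let S : Submodule k A := (Submodule.span 𝔸 {b}).restrictScalars k
  haveI : FiniteDimensional k S := ComodLib.finite_span_singleton A b
  have hS : ∀ s ∈ S, Algebra.lsmul k k A x s ∈ S := fun s hs ↦ (Submodule.span 𝔸 {b}).smul_mem x hs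
  let TS : Module.End k S := (Algebra.lsmul k k A x).restrict hS
  have h1 : ⨆ μ, Module.End.maxGenEigenspace TS μ = ⊤ := Module.End.iSup_maxGenEigenspace_eq_top TS
  have h2 : (⊤ : Submodule k S).map S.subtype ≤ iSup (gen x) := by
    rw [← h1, Submodule.map_iSup]
    refine iSup_mono fun μ ↦ ?_
    rw [show Module.End.maxGenEigenspace TS μ = (gen x μ).comap S.subtype from
      Module.End.genEigenspace_restrict (Algebra.lsmul k k A x) S ⊤ μ hS, Submodule.map_comap_subtype]
    exact inf_le_right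
  exact h2 ⟨⟨b, Submodule.subset_span rfl⟩, trivial, rfl⟩

theorem iSupIndep_gen (x : 𝔸) : iSupIndep (gen x) := Module.End.independent_maxGenEigenspace _

theorem gen_induction [IsAlgClosed k] (x : 𝔸) {P : A → Prop} (h1 : ∀ μ, ∀ b ∈ gen x μ, P b) (h2 : P 0)
    (h3 : ∀ b c, P b → P c → P (b + c)) (b : A) : P b :=
  Submodule.iSup_induction (gen x) (motive := P) (by rw [iSup_gen]; trivial) h1 h2 h3

theorem exists_linear [IsAlgClosed k] (x : 𝔸) {S : Type w} [AddCommGroup S] [Module k S] (F : k → A →ₗ[k] S) :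
    ∃ D : A →ₗ[k] S, ∀ μ, ∀ b ∈ gen x μ, D b = F μ b := by
  classical
  have hint : DirectSum.IsInternal (gen x) :=
    DirectSum.isInternal_submodule_of_iSupIndep_of_iSup_eq_top (iSupIndep_gen x) (iSup_gen x)
  let e : (DirectSum k fun μ ↦ gen x μ) ≃ₗ[k] A := LinearEquiv.ofBijective (DirectSum.coeLinearMap (gen x)) hint
  refine ⟨(DirectSum.toModule k k S fun μ ↦ F μ ∘ₗ (gen x μ).subtype) ∘ₗ e.symm.toLinearMap, fun μ b hb ↦ ?_⟩
  have : e.symm b = DirectSum.lof k k (fun μ ↦ gen x μ) μ ⟨b, hb⟩ :=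
    e.symm_apply_eq.2 (DirectSum.coeLinearMap_of (gen x) μ ⟨b, hb⟩).symm
  simp only [LinearMap.comp_apply, LinearEquiv.coe_coe, this, DirectSum.toModule_lof]
  rfl

theorem mem_gen_iff (x : 𝔸) (μ : k) (b : A) :
    b ∈ gen x μ ↔ ∃ n : ℕ, ((Algebra.lsmul k k A x - μ • 1) ^ n) b = 0 :=
  Module.End.mem_maxGenEigenspace _ _ _

theorem map_mem_gen {x : 𝔸} {μ : k} (φ : A →ₗ[k] A) (hφ : ∀ b, φ (x • b) = x • φ b) {b : A}
    (hb : b ∈ gen x μ) : φ b ∈ gen x μ := by
  obtain ⟨i, hi⟩ := (mem_gen_iff x μ b).1 hb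
  refine (mem_gen_iff x μ _).2 ⟨i, ?_⟩
  have hc : Commute (Algebra.lsmul k k A x - μ • 1) φ := LinearMap.ext fun c ↦ by
    simp only [Module.End.mul_apply, LinearMap.sub_apply, LinearMap.smul_apply, Module.End.one_apply,
      Algebra.lsmul_coe, map_sub, map_smul, hφ]
  rw [← Module.End.mul_apply, (hc.pow_left i).eq, Module.End.mul_apply, hi, map_zero]

theorem mul_mem_gen {x : 𝔸} (hd : IsDer x) {μ ν : k} {p q : A} (hp : p ∈ gen x μ) (hq : q ∈ gen x ν) :
    p * q ∈ gen x (μ + ν) := by
  set T : Module.End k A := Algebra.lsmul k k A x with hT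
  have hprod : ∀ N (μ ν : k) (p q : A) (i j : ℕ), i + j = N → ((T - μ • 1) ^ i) p = 0 → ((T - ν • 1) ^ j) q = 0 →
      ((T - (μ + ν) • 1) ^ N) (p * q) = 0 := by
    intro N
    induction N with
    | zero =>
      intro μ ν p q i j hij hp _
      obtain ⟨rfl, rfl⟩ : i = 0 ∧ j = 0 := by omega
      simp only [pow_zero, Module.End.one_apply] at hp ⊢
      rw [hp, zero_mul]
    | succ N ih =>
      intro μ ν p q i j hij hp hq
      rcases i with _ | i
      · simp only [pow_zero, Module.End.one_apply] at hp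
        rw [hp, zero_mul, map_zero]
      rcases j with _ | j
      · simp only [pow_zero, Module.End.one_apply] at hq
        rw [hq, mul_zero, map_zero]
      have e1 : (T - (μ + ν) • 1) (p * q) = (T - μ • 1) p * q + p * (T - ν • 1) q := by
        simp only [LinearMap.sub_apply, LinearMap.add_apply, LinearMap.smul_apply, Module.End.one_apply, hT,
          Algebra.lsmul_coe, hd.smul_mul, add_smul, sub_mul, mul_sub, smul_mul_assoc, mul_smul_comm]
        rw [mul_comm q (x • p)]
        abel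
      rw [pow_succ, Module.End.mul_apply, e1, map_add]
      rw [ih μ ν _ q i (j + 1) (by omega) (by rwa [← Module.End.mul_apply, ← pow_succ]) hq,
        ih μ ν p _ (i + 1) j (by omega) hp (by rwa [← Module.End.mul_apply, ← pow_succ]), add_zero]
  obtain ⟨i, hi⟩ := (mem_gen_iff x μ p).1 hp
  obtain ⟨j, hj⟩ := (mem_gen_iff x ν q).1 hq
  exact (mem_gen_iff x _ _).2 ⟨i + j, hprod _ μ ν p q i j rfl hi hj⟩

theorem one_mem_gen {x : 𝔸} (hd : IsDer x) : (1 : A) ∈ gen x 0 := by
  refine (mem_gen_iff x 0 1).2 ⟨1, ?_⟩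
  simp only [pow_one, zero_smul, sub_zero, Algebra.lsmul_coe]
  have h := hd.smul_mul (1 : A) 1
  rw [one_mul, one_mul] at h
  exact left_eq_add.mp h

end RedCharZeroLib

end
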