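import Groth.Agent.RedCharZeroLib.Weyl
import Groth.Agent.RedCharZeroLib.Eigen
import Groth.Agent.ComodLib.LinRed
import Mathlib.Algebra.Lie.LieTheorem

/-!
# Connected groups in characteristic zero with no point derivation killing every simple module

Such groups are linearly reductive: the radical of the Lie algebra is central and acts semisimply, and Weyl's
lemma applies to the semisimple quotient.
-/

set_option autoImplicit false

noncomputable section

universe u v w

open TensorProduct HopfRep WithConv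
open scoped ComodLib

namespace RedCharZeroLib

attribute [local instance 100] LieRing.ofAssociativeRing

variable {k : Type u} [Field k] {A : Type v} [CommRing A] [HopfAlgebra k A]

local notation "𝔸" => ComodLib.Dual' k A
local notation "ε" => CoalgebraStruct.counit (R := k) (A := A)

variable (k A) in
/-- The sum of the simple subcomodules of the regular comodule. -/
def core : Submodule 𝔸 A := sSup {m | IsSimpleModule 𝔸 m}

variable (k A) in
/-- No nonzero point derivation kills every simple representation. -/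
def HasReductiveLie : Prop := ∀ x : 𝔸, IsDer x → (∀ c ∈ core k A, x c = 0) → x = 0

theorem finite_of_isSimpleModule {V : Type w} [AddCommGroup V] [Module k V] [Comod k A V]
    (S : Submodule 𝔸 V) [IsSimpleModule 𝔸 S] : Module.Finite k S := by
  obtain ⟨v, hv⟩ := (Submodule.nontrivial_iff_ne_bot.1 (IsSimpleModule.nontrivial 𝔸 S)) |> Submodule.exists_mem_ne_zero_of_ne_bot
  have : S = Submodule.span 𝔸 {v} := by
    refine (((isSimpleModule_iff_isAtom.1 inferInstance).le_iff_eq ?_).1
      ((Submodule.span_singleton_le_iff_mem _ _).2 hv.1)).symm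
    simpa using hv.2
  subst this
  exact ComodLib.finite_span_singleton A v

theorem smul_eq_zero_of_mem_core {x : 𝔸}
    (h : ∀ m : Submodule 𝔸 A, IsSimpleModule 𝔸 m → ∀ a ∈ m, x • a = 0) {c : A} (hc : c ∈ core k A) : x c = 0 := by
  rw [← ComodLib.counit_smul x c]
  rw [core, sSup_eq_iSup'] at hc
  induction hc using Submodule.iSup_induction' with
  | mem m a ha => rw [h m.1 m.2 a ha, map_zero]
  | zero => rw [smul_zero, map_zero]
  | add a b _ _ ha hb => rw [smul_add, map_add, ha, hb, add_zero]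

section radical

variable (k A) in
/-- The radical of the Lie algebra. -/
abbrev rad : LieIdeal k (lieAlg k A) := LieAlgebra.radical k (lieAlg k A)

variable [Algebra.FiniteType k A]

instance finite_lieAlg : Module.Finite k (lieAlg k A) := by
  obtain ⟨s, hs⟩ := Algebra.FiniteType.out (R := k) (A := A)
  let e : lieAlg k A →ₗ[k] (s → k) :=
    { toFun := fun x a ↦ (x : 𝔸) (a : A)
      map_add' := fun _ _ ↦ rfl
      map_smul' := fun _ _ ↦ rfl }
  refine Module.Finite.of_injective e ((injective_iff_map_eq_zero e).2 fun x hx ↦ Subtype.ext ?_)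
  refine WithConv.ext (LinearMap.ext fun a ↦ ?_)
  have ha : a ∈ Algebra.adjoin k (s : Set A) := hs ▸ trivial
  show (x : 𝔸) a = 0
  induction ha using Algebra.adjoin_induction with
  | mem y hy => exact congrFun hx ⟨y, hy⟩
  | algebraMap r => exact IsDer.algebraMap x.2 r
  | add p q _ _ hp hq =>
    show (x : 𝔸).ofConv (p + q) = 0
    rw [map_add, show (x : 𝔸).ofConv p = 0 from hp, show (x : 𝔸).ofConv q = 0 from hq, add_zero]
  | mul p q _ _ hp hq => rw [x.2 p q, hp, hq, mul_zero, mul_zero, add_zero]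

variable [IsAlgClosed k] [CharZero k] [IsNoetherianRing A] [IsDomain A]

/-- The radical acts on a simple subcomodule by scalars. -/
theorem exists_scalar {V : Type w} [AddCommGroup V] [Module k V] [Comod k A V] (S : Submodule 𝔸 V)
    [IsSimpleModule 𝔸 S] : ∃ χ : rad k A → k, ∀ (x : rad k A), ∀ v ∈ S, (x.1 : 𝔸) • v = χ x • v := by
  haveI := finite_of_isSimpleModule S
  haveI : Nontrivial S := IsSimpleModule.nontrivial 𝔸 S
  let ρ : lieAlg k A →ₗ⁅k⁆ Module.End k S := (Algebra.lsmul k k S).toLieHom.comp (lieAlg k A).incl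
  letI := LieRingModule.compLieHom S ρ
  haveI := LieModule.compLieHom S ρ
  obtain ⟨χ, hχ⟩ := LieModule.exists_nontrivial_weightSpace_of_isSolvable (k := k) (L := rad k A) (V := S)
  let W : LieSubmodule k (lieAlg k A) S := LieModule.weightSpaceOfIsLieTower k S χ
  let W' : Submodule k V := (W : Submodule k S).map ((S.subtype).restrictScalars k)
  have hW' : IsSubcomod (k := k) (A := A) W' := isSubcomod_of_lie fun x hx v hv ↦ by
    obtain ⟨s, hs, rfl⟩ := hv
    exact ⟨⁅(⟨x, hx⟩ : lieAlg k A), s⁆, W.lie_mem hs, rfl⟩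
  have hle : ComodLib.toSub W' hW' ≤ S := by rintro v ⟨s, -, rfl⟩; exact s.2
  have heq : ComodLib.toSub W' hW' = S := by
    refine ((isSimpleModule_iff_isAtom.1 inferInstance).le_iff_eq ?_).1 hle
    obtain ⟨⟨s, hs⟩, hs0⟩ := exists_ne (0 : LieModule.weightSpace S χ)
    intro h
    have : (s : V) ∈ ComodLib.toSub W' hW' := ⟨s, hs, rfl⟩
    rw [h, Submodule.mem_bot] at this
    exact hs0 (Subtype.ext (Subtype.ext this))
  refine ⟨χ, fun x v hv ↦ ?_⟩
  rw [← heq] at hv
  obtain ⟨s, hs, rfl⟩ := hv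
  exact congrArg Subtype.val ((LieModule.mem_weightSpace _ _).1 hs x)

variable (hF : HasReductiveLie k A)
include hF

theorem rad_central (x : rad k A) (y : lieAlg k A) : ⁅y, x.1⁆ = 0 := by
  refine Subtype.ext (hF _ ⁅y, x.1⁆.2 fun c hc ↦ smul_eq_zero_of_mem_core (fun m hm a ha ↦ ?_) hc)
  haveI := hm
  obtain ⟨χ, hχ⟩ := exists_scalar m
  rw [LieSubalgebra.coe_bracket, Ring.lie_def, sub_smul, mul_smul, mul_smul, hχ x a ha, hχ x _ (m.smul_mem _ ha),
    smul_comm, sub_self]

theorem rad_smul_comm {V : Type w} [AddCommGroup V] [Module k V] [Comod k A V] (x : rad k A) (f : 𝔸) (v : V) :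
    (x.1 : 𝔸) • (f • v) = f • ((x.1 : 𝔸) • v) := by
  refine map_smul_of_lie (Algebra.lsmul k k V (x.1 : 𝔸)) (fun y hy v ↦ ?_) f v
  have h := congrArg (fun z : lieAlg k A ↦ (z : 𝔸) • v) (rad_central hF x ⟨y, hy⟩)
  simp only [LieSubalgebra.coe_bracket, Ring.lie_def, sub_smul, mul_smul, ZeroMemClass.coe_zero, zero_smul,
    sub_eq_zero] at h
  exact h.symm

set_option maxHeartbeats 1000000 in
/-- Elements of the radical act semisimply. -/
theorem rad_sq_eq_zero (x : rad k A) {a : A} (ha : (x.1 : 𝔸) • ((x.1 : 𝔸) • a) = 0) : (x.1 : 𝔸) • a = 0 := by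
  classical
  set X : 𝔸 := (x.1 : 𝔸) with hX
  have hd : IsDer X := x.1.2
  let T : Module.End k A := Algebra.lsmul k k A X
  let G : k → Submodule k A := gen X
  obtain ⟨D, hD'⟩ := exists_linear X (fun μ ↦ μ • (LinearMap.id : A →ₗ[k] A))
  have hD : ∀ μ, ∀ b ∈ G μ, D b = μ • b := hD'
  have hTf : ∀ (f : 𝔸) (b : A), X • (f • b) = f • (X • b) := fun f b ↦ rad_smul_comm hF x f b
  have hDmul : ∀ p q, D (p * q) = p * D q + q * D p := by
    intro p
    refine gen_induction X (P := fun p ↦ ∀ q, D (p * q) = p * D q + q * D p) (fun μ b hb ↦ ?_) ?_ (fun b c hb hc ↦ ?_) p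
    · intro q
      refine gen_induction X (P := fun q ↦ D (b * q) = b * D q + q * D b) (fun ν c hc ↦ ?_) ?_ (fun c c' hc hc' ↦ ?_) q
      · rw [hD _ _ (mul_mem_gen hd hb hc), hD μ b hb, hD ν c hc, mul_smul_comm, mul_smul_comm, mul_comm c b,
          add_smul, add_comm]
      · simp
      · simp only [mul_add, add_mul, map_add, hc, hc']; abel
    · intro q; simp
    · intro q; simp only [mul_add, add_mul, map_add, hb q, hc q]; abel
  have hDf : ∀ (f : 𝔸) b, D (f • b) = f • D b := fun f ↦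
    gen_induction X (fun μ b hb ↦ by
      have hfb : f • b ∈ G μ := map_mem_gen (Algebra.lsmul k k A f) (fun c ↦ (hTf f c).symm) hb
      rw [hD _ _ hfb, hD _ _ hb, smul_comm]) (by simp) (fun b c hb hc ↦ by simp only [smul_add, map_add, hb, hc])
  let y : 𝔸 := toConv ((CoalgebraStruct.counit (R := k) (A := A)) ∘ₗ D)
  have hy : IsDer y := fun p q ↦ by
    show ε (D (p * q)) = ε p * ε (D q) + ε q * ε (D p)
    rw [hDmul, map_add, Bialgebra.counit_mul, Bialgebra.counit_mul]
  have hxy : X = y := by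
    refine sub_eq_zero.1 (hF _ ((lieAlg k A).sub_mem hd hy) fun c hc ↦ ?_)
    rw [core, sSup_eq_iSup'] at hc
    show X c - y c = 0
    induction hc using Submodule.iSup_induction' with
    | mem m b hb =>
      haveI hm : IsSimpleModule 𝔸 m.1 := m.2
      obtain ⟨χ, hχ⟩ := exists_scalar m.1
      have hb' : b ∈ G (χ x) := (mem_gen_iff X _ _).2 ⟨1, by
        simp only [pow_one, LinearMap.sub_apply, LinearMap.smul_apply, Module.End.one_apply, T, Algebra.lsmul_coe]
        rw [hX, hχ x b hb, sub_self]⟩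
      show X b - ε (D b) = 0
      rw [hD _ b hb', ← hχ x b hb, ComodLib.counit_smul, sub_self]
    | zero => simp [show X (0 : A) = 0 from map_zero X.ofConv, show y (0 : A) = 0 from map_zero y.ofConv]
    | add b c _ _ hb hc =>
      show X.ofConv (b + c) - y.ofConv (b + c) = 0
      rw [map_add, map_add]
      linear_combination hb + hc
  have hTD : ∀ b, X • b = D b := fun b ↦ by
    by_contra hne
    obtain ⟨α, hα1, -⟩ := Submodule.exists_dual_map_eq_bot_of_notMem (p := (⊥ : Submodule k A))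
      (show X • b - D b ∉ (⊥ : Submodule k A) by simpa [sub_eq_zero] using hne) inferInstance
    apply hα1
    have e1 : α (X • b) = X (toConv α • b) := by
      rw [← ComodLib.counit_smul X, rad_smul_comm hF x]
      exact (ComodLib.counit_smul (toConv α) _).symm
    rw [map_sub, e1, hxy]
    show ε (D (toConv α • b)) - α (D b) = 0
    rw [hDf, ComodLib.counit_smul]
    exact sub_self _
  have h0 : a ∈ G 0 := (mem_gen_iff X _ _).2 ⟨2, by
    simpa [pow_two, T] using ha⟩
  rw [hTD, hD 0 a h0, zero_smul]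

theorem rad_sq_eq_zero' {V : Type w} [AddCommGroup V] [Module k V] [Comod k A V] (x : rad k A) {v : V}
    (hv : (x.1 : 𝔸) • ((x.1 : 𝔸) • v) = 0) : (x.1 : 𝔸) • v = 0 := by
  by_contra hne
  obtain ⟨α, hα1, -⟩ := Submodule.exists_dual_map_eq_bot_of_notMem (p := (⊥ : Submodule k V))
    (by simpa using hne) inferInstance
  apply hα1
  rw [← ComodLib.counit_coeff (A := A) α, LinearMap.map_smul, rad_sq_eq_zero hF x (a := ComodLib.coeff α v)
    (by rw [← LinearMap.map_smul, ← LinearMap.map_smul, hv, map_zero]), map_zero]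

omit hF [IsNoetherianRing A] [IsDomain A] [IsAlgClosed k] in
theorem hasTrivialRadical_quot : LieAlgebra.HasTrivialRadical k (lieAlg k A ⧸ rad k A) := by
  rw [LieAlgebra.hasTrivialRadical_iff_no_abelian_ideals]
  intro J hJ
  let π : lieAlg k A →ₗ⁅k⁆ (lieAlg k A ⧸ rad k A) :=
    { (rad k A : Submodule k (lieAlg k A)).mkQ with map_lie' := fun {a b} ↦ rfl }
  let I : LieIdeal k (lieAlg k A) := LieIdeal.comap π J
  haveI : LieAlgebra.IsSolvable I := by
    obtain ⟨n, hn⟩ := LieAlgebra.IsSolvable.solvable k (rad k A)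
    rw [LieIdeal.derivedSeries_eq_bot_iff] at hn
    refine LieAlgebra.IsSolvable.mk (R := k) (k := n + 1) ((LieIdeal.derivedSeries_eq_bot_iff I _).2 ?_)
    rw [LieAlgebra.derivedSeriesOfIdeal_add]
    refine le_bot_iff.1 (le_trans (LieAlgebra.derivedSeriesOfIdeal_mono ?_ n) hn.le)
    rw [LieAlgebra.derivedSeriesOfIdeal_succ, LieAlgebra.derivedSeriesOfIdeal_zero, LieSubmodule.lie_le_iff]
    intro a ha b hb
    refine (LieSubmodule.Quotient.mk_eq_zero' (N := rad k A)).1 ?_
    show π ⁅a, b⁆ = 0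
    rw [LieHom.map_lie]
    exact congrArg Subtype.val (LieModule.IsTrivial.trivial (L := J) (M := J) ⟨π a, ha⟩ ⟨π b, hb⟩)
  rw [eq_bot_iff]
  intro z hz
  obtain ⟨a, rfl⟩ := Submodule.Quotient.mk_surjective _ z
  exact (LieSubmodule.Quotient.mk_eq_zero' (N := rad k A)).2 ((LieAlgebra.LieIdeal.solvable_iff_le_radical k (lieAlg k A) I).1 inferInstance hz)

/-- **The main criterion.** -/
theorem exists_fixed_lift {V W : Type v} [AddCommGroup V] [Module k V] [Comod k A V] [AddCommGroup W] [Module k W]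
    [Comod k A W] [Module.Finite k V] (φ : V →ₗ[k] W) (hφ : Hoch.IsComodHom A φ) (hs : Function.Surjective φ)
    {w : W} (hw : w ∈ fixedPts k A W) : ∃ v ∈ fixedPts k A V, φ v = w := by
  classical
  rcases eq_or_ne w 0 with rfl | hw0
  · exact ⟨0, zero_mem _, map_zero φ⟩
  have hφx : ∀ (f : 𝔸) v, φ (f • v) = f • φ v := (ComodLib.isComodHom_iff φ).1 hφ
  have hxw : ∀ x : 𝔸, IsDer x → x • w = 0 := fun x hx ↦ by
    rw [ComodLib.smul_eq, show Comod.coact (k := k) (A := A) w = w ⊗ₜ[k] (1 : A) from hw, ComodLib.slice_tmul,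
      show x.ofConv (1 : A) = 0 from hx.one, zero_smul]
  -- descend to the common kernel of the radical
  have step : ∀ s : Finset (rad k A), ∃ M : Submodule k V, (∀ y : 𝔸, IsDer y → ∀ v ∈ M, y • v ∈ M) ∧
      (∀ v ∈ M, φ v ∈ k ∙ w) ∧ (∀ x ∈ s, ∀ v ∈ M, (x.1 : 𝔸) • v = 0) ∧ ∃ v ∈ M, φ v = w := by
    intro s
    induction s using Finset.induction_on with
    | empty =>
      obtain ⟨v, hv⟩ := hs w
      refine ⟨(k ∙ w).comap φ, fun y hy u hu ↦ ?_, fun u hu ↦ hu, by simp, v, ?_, hv⟩
      · obtain ⟨c, hc⟩ := Submodule.mem_span_singleton.1 hu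
        show φ (y • u) ∈ k ∙ w
        rw [hφx, ← hc, smul_comm, hxw y hy, smul_zero]
        exact zero_mem _
      · show φ v ∈ k ∙ w
        rw [hv]; exact Submodule.mem_span_singleton_self w
    | insert x s _ ih =>
      obtain ⟨M, hM, hMw, hMs, v, hvM, hv⟩ := ih
      let T : M →ₗ[k] M := (Algebra.lsmul k k V (x.1 : 𝔸)).restrict (hM _ x.1.2)
      let T' : LinearMap.range T →ₗ[k] LinearMap.range T := T.restrict fun m _ ↦ LinearMap.mem_range_self T m
      have hinj : Function.Injective T' := (injective_iff_map_eq_zero _).2 fun ⟨r, t, ht⟩ hr ↦ by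
        subst ht
        refine Subtype.ext (Subtype.ext ?_)
        exact rad_sq_eq_zero' hF x (congrArg (fun z : LinearMap.range T ↦ ((z : M) : V)) hr)
      obtain ⟨⟨r, t, ht⟩, hr⟩ := LinearMap.surjective_of_injective hinj ⟨T ⟨v, hvM⟩, LinearMap.mem_range_self _ _⟩
      have hr' : (x.1 : 𝔸) • (r : V) = (x.1 : 𝔸) • v := congrArg (fun z : LinearMap.range T ↦ ((z : M) : V)) hr
      refine ⟨M ⊓ LinearMap.ker (Algebra.lsmul k k V (x.1 : 𝔸)), fun y hy u hu ↦ ⟨hM y hy u hu.1, ?_⟩,
        fun u hu ↦ hMw u hu.1, fun x' hx' u hu ↦ ?_, v - (r : V), ⟨sub_mem hvM r.2, ?_⟩, ?_⟩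
      · show (x.1 : 𝔸) • (y • u) = 0
        rw [rad_smul_comm hF x, show (x.1 : 𝔸) • u = 0 from hu.2, smul_zero]
      · rcases Finset.mem_insert.1 hx' with rfl | h
        · exact hu.2
        · exact hMs x' h u hu.1
      · show (x.1 : 𝔸) • (v - (r : V)) = 0
        rw [smul_sub, hr', sub_self]
      · have : φ (r : V) = 0 := by
          subst ht
          obtain ⟨c, hc⟩ := Submodule.mem_span_singleton.1 (hMw (t : V) t.2)
          show φ ((x.1 : 𝔸) • (t : V)) = 0
          rw [hφx, ← hc, smul_comm, hxw _ x.1.2, smul_zero]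
        rw [map_sub, hv, this, sub_zero]
  obtain ⟨s, hspan⟩ := (Module.Finite.fg_top : (⊤ : Submodule k (rad k A)).FG)
  obtain ⟨M, hM, hMw, hMs, v, hvM, hv⟩ := step s
  have hkill : ∀ x : rad k A, ∀ u ∈ M, (x.1 : 𝔸) • u = 0 := fun x u hu ↦ by
    have hx : x ∈ Submodule.span k (s : Set (rad k A)) := hspan ▸ trivial
    induction hx using Submodule.span_induction with
    | mem z hz => exact hMs z hz u hu
    | zero => exact zero_smul 𝔸 u
    | add a b _ _ ha hb =>
      show (((a.1 : 𝔸)) + (b.1 : 𝔸)) • u = 0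
      rw [add_smul, ha, hb, add_zero]
    | smul c a _ ha =>
      show (c • (a.1 : 𝔸)) • u = 0
      rw [smul_assoc, ha, smul_zero]
  -- the action of the semisimple quotient
  let ρl : lieAlg k A →ₗ[k] Module.End k M :=
    { toFun := fun y ↦ (Algebra.lsmul k k V (y : 𝔸)).restrict (hM _ y.2)
      map_add' := fun a b ↦ LinearMap.ext fun u ↦ Subtype.ext (add_smul (a : 𝔸) (b : 𝔸) (u : V))
      map_smul' := fun c a ↦ LinearMap.ext fun u ↦ Subtype.ext (smul_assoc c (a : 𝔸) (u : V)) }
  let ρq : (lieAlg k A ⧸ rad k A) →ₗ⁅k⁆ Module.End k M :=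
    { (rad k A : Submodule k (lieAlg k A)).liftQ ρl (fun y hy ↦ LinearMap.ext fun u ↦
        Subtype.ext (hkill ⟨y, hy⟩ u u.2)) with
      map_lie' := fun {a b} ↦ by
        obtain ⟨a, rfl⟩ := Submodule.Quotient.mk_surjective _ a
        obtain ⟨b, rfl⟩ := Submodule.Quotient.mk_surjective _ b
        refine LinearMap.ext fun u ↦ Subtype.ext ?_
        show ((⁅a, b⁆ : lieAlg k A) : 𝔸) • (u : V) = (a : 𝔸) • (b : 𝔸) • (u : V) - (b : 𝔸) • (a : 𝔸) • (u : V)
        rw [LieSubalgebra.coe_bracket, Ring.lie_def, sub_smul, mul_smul, mul_smul] }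
  letI := LieRingModule.compLieHom M ρq
  haveI := LieModule.compLieHom M ρq
  haveI := hasTrivialRadical_quot (k := k) (A := A)
  obtain ⟨α, hα1, -⟩ := Submodule.exists_dual_map_eq_bot_of_notMem (p := (⊥ : Submodule k W))
    (by simpa using hw0) inferInstance
  let ψ : M →ₗ[k] k := α ∘ₗ φ ∘ₗ M.subtype
  obtain ⟨m, hm, hmψ⟩ := exists_invariant (L := lieAlg k A ⧸ rad k A) _ M rfl ψ (fun q u ↦ by
    obtain ⟨y, rfl⟩ := Submodule.Quotient.mk_surjective _ q
    obtain ⟨c, hc⟩ := Submodule.mem_span_singleton.1 (hMw (u : V) u.2)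
    show α (φ ((y : 𝔸) • (u : V))) = 0
    rw [hφx, ← hc, smul_comm, hxw _ y.2, smul_zero, map_zero])
    (fun h ↦ hα1 (by rw [← hv]; exact LinearMap.congr_fun h ⟨v, hvM⟩))
  have hmfix : (m : V) ∈ fixedPts k A V := mem_fixedPts_of_lie fun y hy ↦
    congrArg Subtype.val (hm (Submodule.Quotient.mk (⟨y, hy⟩ : lieAlg k A)))
  obtain ⟨c, hc⟩ := Submodule.mem_span_singleton.1 (hMw (m : V) m.2)
  have hc0 : c ≠ 0 := by
    rintro rfl
    apply hmψ
    show α (φ (m : V)) = 0
    rw [← hc, zero_smul, map_zero]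
  exact ⟨c⁻¹ • (m : V), Submodule.smul_mem _ _ hmfix, by rw [map_smul, ← hc, smul_smul, inv_mul_cancel₀ hc0, one_smul]⟩

theorem isLinearlyReductive : IsLinearlyReductive k A :=
  ComodLib.isLinearlyReductive_of_lift fun _ _ _ _ _ _ _ _ _ _ φ hφ hs _ hw ↦ exists_fixed_lift hF φ hφ hs hw

end radical

end RedCharZeroLib

end
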