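import Groth.Agent.RedCharZeroLib.Scheme
import Groth.Agent.UnipHopfLib.BaseChange
import Groth.Prelude.Def_W4bk4grossh1223Act
import Groth.Prelude.Def_Par

/-!
# Representations as comodules; unipotent radicals are unipotent
-/

set_option autoImplicit false
set_option backward.isDefEq.respectTransparency false
set_option synthInstance.maxHeartbeats 400000
set_option maxHeartbeats 1000000

noncomputable section

universe u v w

open CategoryTheory MonoidalCategory CartesianMonoidalCategory AlgebraicGeometry
open TensorProduct HopfRep WithConv CoactBr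
open scoped ComodLib MonObj

namespace RedCharZeroLib

attribute [-instance] CategoryTheory.Hom.commGroup

variable {k : Type u} [Field k] {A : Type u} [CommRing A] [HopfAlgebra k A]
  {G : Over (Spec (CommRingCat.of k))} [GrpObj G] {M : Type u} [AddCommGroup M] [Module k M]

local notation "𝔸" => ComodLib.Dual' k A

/-- The value of the universal point. -/
def univVal (m : VecGrp.GMod G M) (w : sp k A ⟶ G) : M →ₗ[k] A ⊗[k] M :=
  (m.ρ A w).toLinearMap.restrictScalars k ∘ₗ TensorProduct.mk k A M 1

theorem rho_pt (m : VecGrp.GMod G M) (w : sp k A ⟶ G) {B : Type u} [CommRing B] [Algebra k B] (φ : A →ₐ[k] B) (x : M) :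
    m.ρ B (pt φ ≫ w) ((1 : B) ⊗ₜ[k] x) = VecGrp.Wmap φ (univVal m w x) := by
  refine Eq.trans ?_ (m.naturality φ w ((1 : A) ⊗ₜ[k] x)).symm
  rw [VecGrp.Wmap_tmul, map_one]
  rfl

theorem pt_comul :
    pt (Bialgebra.comulAlgHom k A) = pt (Algebra.TensorProduct.includeLeft : A →ₐ[k] A ⊗[k] A) *
      pt (Algebra.TensorProduct.includeRight : A →ₐ[k] A ⊗[k] A) := by
  rw [Groth.Agent.DiagRep.pt_mul_conv, ← Groth.Agent.DiagRep.toConv_comul]

/-- The comodule of a representation pulled back along a homomorphism. -/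
@[reducible] def comodOf (m : VecGrp.GMod G M) (w : sp k A ⟶ G) [IsMonHom w] : Comod k A M where
  coact := (TensorProduct.comm k A M).toLinearMap ∘ₗ univVal m w
  counit_comp := by
    refine LinearMap.ext fun x ↦ ?_
    have h := rho_pt m w (Bialgebra.counitAlgHom k A) x
    have h1 : pt (Bialgebra.counitAlgHom k A) ≫ w = (1 : sp k k ⟶ G) := by
      rw [show pt (Bialgebra.counitAlgHom k A) = (1 : sp k k ⟶ sp k A) by
        rw [one_eq_pt]; exact congrArg pt (AlgHom.ext fun _ ↦ rfl), MonObj.one_comp]
    rw [h1, show m.ρ k (1 : sp k k ⟶ G) = 1 from map_one _] at h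
    simp only [LinearMap.comp_apply, LinearEquiv.coe_coe]
    have key : ∀ z : A ⊗[k] M, LinearMap.lTensor M (CoalgebraStruct.counit (R := k)) (TensorProduct.comm k A M z) =
        TensorProduct.comm k k M (VecGrp.Wmap (Bialgebra.counitAlgHom k A) z) := fun z ↦ by
      induction z with
      | zero => simp
      | tmul a y => simp
      | add a b ha hb => simp only [map_add, ha, hb]
    rw [key, ← h]
    rfl
  coassoc := by
    refine LinearMap.ext fun x ↦ ?_
    let iL : A →ₐ[k] A ⊗[k] A := Algebra.TensorProduct.includeLeft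
    let iR : A →ₐ[k] A ⊗[k] A := Algebra.TensorProduct.includeRight
    let u := univVal m w
    have h := rho_pt m w (Bialgebra.comulAlgHom k A) x
    rw [pt_comul, MonObj.mul_comp, show m.ρ (A ⊗[k] A) (pt iL ≫ w * pt iR ≫ w) = _ from map_mul _ _ _] at h
    replace h : m.ρ (A ⊗[k] A) (pt iL ≫ w) (VecGrp.Wmap iR (u x)) = VecGrp.Wmap (Bialgebra.comulAlgHom k A) (u x) := by
      rw [← rho_pt]; exact h
    have key : ∀ z : A ⊗[k] M, TensorProduct.comm k (A ⊗[k] A) M (m.ρ (A ⊗[k] A) (pt iL ≫ w) (VecGrp.Wmap iR z)) =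
        TensorProduct.assoc k M A A (((TensorProduct.comm k A M).toLinearMap ∘ₗ u).rTensor A
          (TensorProduct.comm k A M z)) := fun z ↦ by
      induction z with
      | zero => simp
      | add a b ha hb => simp only [map_add, ha, hb]
      | tmul a y =>
        rw [VecGrp.Wmap_tmul, show iR a ⊗ₜ[k] y = iR a • ((1 : A ⊗[k] A) ⊗ₜ[k] y) by
          rw [TensorProduct.smul_tmul', smul_eq_mul, mul_one], map_smul, rho_pt]
        simp only [TensorProduct.comm_tmul, LinearMap.rTensor_tmul, LinearMap.comp_apply, LinearEquiv.coe_coe]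
        show TensorProduct.comm k (A ⊗[k] A) M (iR a • VecGrp.Wmap iL (u y)) = _
        generalize u y = z
        induction z with
        | zero => simp [TensorProduct.zero_tmul]
        | add p q hp hq => simp only [map_add, smul_add, TensorProduct.add_tmul, hp, hq]
        | tmul b q => simp [iL, iR, TensorProduct.smul_tmul']
    simp only [LinearMap.comp_apply, LinearEquiv.coe_coe]
    refine (key (u x)).symm.trans ?_
    rw [h]
    generalize univVal m w x = z
    induction z with
    | zero => simp
    | add a b ha hb => simp only [map_add, ha, hb]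
    | tmul a y => simp [u]

theorem comodOf_smul (m : VecGrp.GMod G M) (w : sp k A ⟶ G) [IsMonHom w] (g : A →ₐ[k] k) (x : M) :
    m.ρ k (pt g ≫ w) ((1 : k) ⊗ₜ[k] x) =
      (1 : k) ⊗ₜ[k] (letI := comodOf m w; (toConv g.toLinearMap : 𝔸) • x) := by
  rw [rho_pt]
  show _ = (1 : k) ⊗ₜ[k] ComodLib.slice g.toLinearMap (TensorProduct.comm k A M (univVal m w x))
  generalize univVal m w x = z
  induction z with
  | zero => simp
  | add a b ha hb => simp only [map_add, TensorProduct.tmul_add, ha, hb]
  | tmul a y => simp [TensorProduct.tmul_smul, TensorProduct.smul_tmul', ← TensorProduct.smul_tmul]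

theorem isSubcomod_of_isStable (m : VecGrp.GMod G M) (w : sp k A ⟶ G) [IsMonHom w] {W : Submodule k M}
    (hW : m.IsStable (𝟙 G) W) : letI := comodOf m w; IsSubcomod (k := k) (A := A) W := by
  intro x hx
  have h := hW A w x hx
  rw [Category.comp_id] at h
  have key : ∀ y ∈ W.baseChange A, TensorProduct.comm k A M y ∈ LinearMap.range (W.subtype.rTensor A) := by
    intro y hy
    rw [Submodule.baseChange_eq_span] at hy
    induction hy using Submodule.span_induction with
    | mem z hz =>
      obtain ⟨v, hv, rfl⟩ := hz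
      exact ⟨⟨v, hv⟩ ⊗ₜ[k] 1, rfl⟩
    | zero => rw [map_zero]; exact zero_mem _
    | add p q _ _ hp hq => rw [map_add]; exact add_mem hp hq
    | smul c p _ hp =>
      obtain ⟨z, hz⟩ := hp
      refine ⟨LinearMap.lTensor W (LinearMap.mulLeft k c) z, ?_⟩
      have : ∀ q : A ⊗[k] M, TensorProduct.comm k A M (c • q) =
          LinearMap.lTensor M (LinearMap.mulLeft k c) (TensorProduct.comm k A M q) := fun q ↦ by
        induction q with
        | zero => simp
        | add a b ha hb => simp only [map_add, smul_add, ha, hb]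
        | tmul a b => simp [TensorProduct.smul_tmul']
      rw [this, ← hz, ← LinearMap.comp_apply, ← LinearMap.comp_apply, LinearMap.rTensor_comp_lTensor,
        LinearMap.lTensor_comp_rTensor]
  exact key _ h

/-- Fixed vectors of the comodule are fixed by every point. -/
theorem mem_fixedUnder_of_iso (m : VecGrp.GMod G M) {H : Over (Spec (CommRingCat.of k))} [GrpObj H] (i : H ⟶ G)
    [IsMonHom i] (v : sp k A ≅ H) [IsMonHom v.hom] {x : M}
    (hx : x ∈ (letI := comodOf m (v.hom ≫ i); fixedPts k A M)) : x ∈ m.fixedUnder i := by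
  intro B _ _ h
  obtain ⟨φ, hφ⟩ := Groth.Agent.DiagRep.exists_pt (h ≫ v.inv)
  have e : h ≫ i = pt φ ≫ v.hom ≫ i := by rw [← hφ, Category.assoc, Iso.inv_hom_id_assoc]
  rw [e, rho_pt]
  have hu : univVal m (v.hom ≫ i) x = (1 : A) ⊗ₜ[k] x := by
    apply (TensorProduct.comm k A M).injective
    rw [TensorProduct.comm_tmul]
    exact hx
  rw [hu, VecGrp.Wmap_tmul, map_one]

/-- Points of a connected reduced group are products of points from a nonempty basic open set. -/
theorem exists_mul_of_basicOpen [IsAlgClosed k] [Algebra.FiniteType k A] [IsDomain A] {f : A}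
    (hf : CoalgebraStruct.counit (R := k) f ≠ 0) (q : A →ₐ[k] k) :
    ∃ v w : A →ₐ[k] k, v f ≠ 0 ∧ w f ≠ 0 ∧ pt q = pt v * pt w := by
  let Q : 𝔸 := toConv q.toLinearMap
  let h : A := f * HopfAlgebraStruct.antipode (R := k) (Q • f)
  have hev : ∀ v : A →ₐ[k] k,
      v (HopfAlgebraStruct.antipode (R := k) (Q • f)) = (toConv (v.comp (HopfAlgebra.antipodeAlgHom k A)) * toConv q) f := by
    intro v
    rw [AlgHom.convMul_apply]
    show v (HopfAlgebraStruct.antipode (R := k) (ComodLib.slice q.toLinearMap (CoalgebraStruct.comul (R := k) f))) = _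
    generalize CoalgebraStruct.comul (R := k) f = z
    induction z with
    | zero => simp
    | add a b ha hb => simp only [map_add, ha, hb]
    | tmul a b => simp [mul_comm]
  have hne : h ≠ 0 := by
    refine mul_ne_zero (fun h0 ↦ hf (by rw [h0, map_zero])) fun h0 ↦ hf ?_
    have h1 := congrArg q h0
    rw [hev q, map_zero] at h1
    have e : (toConv (q.comp (HopfAlgebra.antipodeAlgHom k A)) * toConv q : WithConv (A →ₐ[k] k)) = 1 := by
      have h2 := inv_mul_cancel (pt q)
      rw [pt_inv, Groth.Agent.DiagRep.pt_mul_conv, one_eq_pt] at h2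
      exact WithConv.ext (pt_injective h2)
    rw [e, AlgHom.convOne_apply, Algebra.algebraMap_self, RingHom.id_apply] at h1
    exact h1
  obtain ⟨v, hv⟩ : ∃ v : A →ₐ[k] k, v h ≠ 0 := by
    by_contra! h0
    exact hne (eq_zero_of_forall_point h0)
  rw [map_mul, mul_ne_zero_iff, hev v] at hv
  refine ⟨v, (toConv (v.comp (HopfAlgebra.antipodeAlgHom k A)) * toConv q).ofConv, hv.1, hv.2, ?_⟩
  rw [← Groth.Agent.DiagRep.pt_mul_conv, ← pt_inv, mul_inv_cancel_left]

/-- A smooth connected group without subtori over an algebraically closed field of characteristic zero is unipotent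
(stated with the geometric fibre). -/
theorem isUnipotent_of_geomFibre [CharZero k] [Algebra.FiniteType k A]
    {U : Over (Spec (CommRingCat.of k))} [GrpObj U] (v : sp k A ≅ U) [IsMonHom v.hom]
    (hc : ∀ s, ConnectedSpace (Red.geomFibre s U).left ∧
      Red.HasNoSubtorus (AlgebraicClosure ((Spec (CommRingCat.of k)).residueField s)) (Red.geomFibre s U)) :
    IsUnipotent k A := by
  let s : (Spec (CommRingCat.of k) : Scheme.{u}) := IsLocalRing.closedPoint k
  let K : Type u := AlgebraicClosure ((Spec (CommRingCat.of k)).residueField s)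
  letI : Algebra k K := (Spec.preimage (Red.geomPt s)).hom.toAlgebra
  have hh : Groth.Agent.DiagRep.baseHom k K = Red.geomPt s := Spec.map_preimage _
  haveI : CharZero K := charZero_of_injective_algebraMap (algebraMap k K).injective
  obtain ⟨hconn, hno⟩ : ConnectedSpace (Red.bc (Red.geomPt s) U).left ∧ Red.HasNoSubtorus K (Red.bc (Red.geomPt s) U) :=
    hc s
  rw [← hh] at hconn hno
  let f := Groth.Agent.DiagRep.baseHom k K
  haveI hm : IsMonHom ((Over.pullback f).mapIso v).hom :=
    @Functor.map.instIsMonHom _ _ _ _ _ _ (Over.pullback f) _ _ _ _ _ v.hom _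
  haveI : IsMonHom (asIso (Groth.Agent.DiagRep.bcHom k K A)).hom := Groth.Agent.DiagRep.isMonHom_bcHom k K A
  haveI : IsMonHom (asIso (Groth.Agent.DiagRep.bcHom k K A)).symm.hom := by
    dsimp only [Iso.symm_hom]; infer_instance
  let e : sp K (K ⊗[k] A) ≅ Red.bc f U :=
    (asIso (Groth.Agent.DiagRep.bcHom k K A)).symm ≪≫ (Over.pullback f).mapIso v
  haveI : IsMonHom e.hom := by dsimp only [e, Iso.trans_hom]; infer_instance
  haveI : IsIso e.inv.left := (Over.forget _).map_isIso e.inv
  haveI hc' : ConnectedSpace ↥(Spec (CommRingCat.of (K ⊗[k] A))) :=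
    e.inv.left.surjective.connectedSpace e.inv.left.continuous
  haveI : LocallyOfFiniteType (sp K (K ⊗[k] A)).hom :=
    (HasRingHomProperty.Spec_iff (P := @LocallyOfFiniteType)).2
      (RingHom.finiteType_algebraMap.2 inferInstance)
  haveI : IsDomain (K ⊗[k] A) :=
    isDomain_of_connected (k := K) (Groth.Agent.GrpSchLib.smooth_of_charZero (sp K (K ⊗[k] A))) hc'
  have hno' : Red.HasNoSubtorus K (sp K (K ⊗[k] A)) := fun T _ j _ _ hT ↦ hno T (j ≫ e.hom) hT
  have hU := isUnipotent_of_hasNoSubtorus hno'
  refine Groth.Agent.UnipHopf.isUnipotent_of_exhaustive fun a ↦ ?_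
  obtain ⟨n, hn⟩ := Groth.Agent.UnipHopf.exhaustive_of_isUnipotent hU ((1 : K) ⊗ₜ[k] a)
  exact ⟨n, Groth.Agent.UnipHopf.mem_K_of_one_tmul hn⟩

end RedCharZeroLib

end
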