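import Mathlib.AlgebraicGeometry.Properties
import Mathlib.AlgebraicGeometry.Stalk
import Mathlib.AlgebraicGeometry.Noetherian
import Mathlib.AlgebraicGeometry.FunctionField

/-!
# Connected schemes with integral local rings are integral (copy of `CurveVBLib.Integral`, with light imports)
-/

set_option autoImplicit false
universe u

open CategoryTheory CategoryTheory.Limits AlgebraicGeometry TopologicalSpace

namespace RedCharZeroLib

variable {X : Scheme.{u}}

theorem component_unique [∀ x : X, IsDomain (X.presheaf.stalk x)] {Z Z' : Set X} (hZ : Z ∈ irreducibleComponents X)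
    (hZ' : Z' ∈ irreducibleComponents X) {x : X} (hx : x ∈ Z) (hx' : x ∈ Z') : Z = Z' := by
  have key : ∀ W ∈ irreducibleComponents X, x ∈ W →
      W = closure {X.fromSpecStalk x (⟨⊥, Ideal.isPrime_bot⟩ : PrimeSpectrum (X.presheaf.stalk x))} := by
    intro W hW hxW
    obtain ⟨ξ, hξ⟩ := QuasiSober.sober hW.1 (isClosed_of_mem_irreducibleComponents W hW)
    have hsp : ξ ∈ Set.range (X.fromSpecStalk x) := by
      rw [Scheme.range_fromSpecStalk]
      exact hξ.specializes hxW
    obtain ⟨a, ha⟩ := hsp
    let z : Spec (X.presheaf.stalk x) := (⟨⊥, Ideal.isPrime_bot⟩ : PrimeSpectrum (X.presheaf.stalk x))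
    have hza : z ⤳ a := (PrimeSpectrum.le_iff_specializes _ _).mp bot_le
    have hsub : W ⊆ closure {X.fromSpecStalk x z} := by
      rw [← hξ, ← ha]
      exact closure_minimal (Set.singleton_subset_iff.mpr
        (hza.map (X.fromSpecStalk x).continuous).mem_closure) isClosed_closure
    exact (hW.eq_of_le isIrreducible_singleton.closure hsub)
  exact (key Z hZ hx).trans (key Z' hZ' hx').symm

theorem isIntegral_of_connected [∀ x : X, IsDomain (X.presheaf.stalk x)] [IsNoetherian X] [ConnectedSpace X] :
    IsIntegral X := by
  haveI : IsReduced X := isReduced_of_isReduced_stalk X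
  obtain ⟨x⟩ : Nonempty X := inferInstance
  have hfin := TopologicalSpace.NoetherianSpace.finite_irreducibleComponents (α := X)
  let Z := irreducibleComponent x
  have hZ : Z ∈ irreducibleComponents X := irreducibleComponent_mem_irreducibleComponents x
  have hopen : IsOpen Z := by
    have hc : Z = (⋃ W ∈ irreducibleComponents X \ {Z}, W)ᶜ := by
      ext y
      simp only [Set.mem_compl_iff, Set.mem_iUnion, not_exists, Set.mem_sdiff, Set.mem_singleton_iff]
      refine ⟨fun hy W hW hyW => hW.2 (component_unique hW.1 hZ hyW hy), fun h => ?_⟩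
      by_contra hy
      exact h (irreducibleComponent y) ⟨irreducibleComponent_mem_irreducibleComponents y,
        fun he => hy (he ▸ mem_irreducibleComponent)⟩ mem_irreducibleComponent
    rw [hc]
    exact ((hfin.subset Set.sdiff_subset).isClosed_biUnion fun W hW =>
      isClosed_of_mem_irreducibleComponents W hW.1).isOpen_compl
  have huniv : Z = Set.univ := IsClopen.eq_univ ⟨isClosed_irreducibleComponent, hopen⟩
    ⟨x, mem_irreducibleComponent⟩
  haveI : IrreducibleSpace X := by
    haveI : PreirreducibleSpace X := ⟨huniv ▸ (isIrreducible_irreducibleComponent (x := x)).2⟩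
    exact ⟨inferInstance⟩
  exact isIntegral_of_irreducibleSpace_of_isReduced X

end RedCharZeroLib
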