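import Groth.Agent.RedCharZeroLib.Main
import Groth.Agent.UnipHopfLib.Trivial
import Groth.Agent.UnipHopfLib.Points
import Groth.Agent.DiagRepLib.Scheme
import Groth.Agent.RedCharZeroLib.TorusSplit
import Groth.Agent.ConnBC.Main
import Groth.Agent.RedCharZeroLib.Irred
import Groth.Agent.CohenLib.RegularField
import Groth.Agent.CommAlgDim.Integral
import Groth.Agent.GrpSchLib.Cartier
import Groth.Agent.GrpSchLib.HopfReduced
import Groth.Prelude.Def_Red
import Groth.Prelude.Def_CoactBr

/-!
# The kernel of all simple representations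

It is a normal unipotent subgroup; so for a reductive group it is trivial, and no nonzero point derivation kills
every simple representation.
-/

set_option autoImplicit false
set_option backward.isDefEq.respectTransparency false

noncomputable section

universe u v w

open CategoryTheory MonoidalCategory CartesianMonoidalCategory AlgebraicGeometry
open TensorProduct HopfRep WithConv CoactBr
open scoped ComodLib MonObj

namespace RedCharZeroLib

attribute [local instance 100] LieRing.ofAssociativeRing
attribute [local instance] CoactBr.braidedAlgSpecOf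
attribute [-instance] CategoryTheory.Hom.commGroup

variable {k : Type u} [Field k] {A : Type u} [CommRing A] [HopfAlgebra k A]

local notation "𝔸" => ComodLib.Dual' k A
local notation "ε" => CoalgebraStruct.counit (R := k) (A := A)

/-- Endomorphisms of the regular comodule preserve the core. -/
theorem map_mem_core (φ : A →ₗ[𝔸] A) {c : A} (hc : c ∈ core k A) : φ c ∈ core k A := by
  have h : core k A ≤ (core k A).comap φ := by
    refine sSup_le fun m (hm : IsSimpleModule 𝔸 m) a ha ↦ ?_
    haveI := hm
    rcases LinearMap.injective_or_eq_zero (φ ∘ₗ m.subtype) with hi | h0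
    · have hr : IsSimpleModule 𝔸 (LinearMap.range (φ ∘ₗ m.subtype)) :=
        IsSimpleModule.congr (LinearEquiv.ofInjective _ hi).symm
      exact le_sSup (show LinearMap.range (φ ∘ₗ m.subtype) ∈ {m : Submodule 𝔸 A | IsSimpleModule 𝔸 m} from hr) ⟨⟨a, ha⟩, rfl⟩
    · have h1 : φ a = 0 := LinearMap.congr_fun h0 ⟨a, ha⟩
      show φ a ∈ core k A
      rw [h1]; exact zero_mem _
  exact h hc

/-- Comultiplication of the core, left and right. -/
theorem mul_map_comul_congr_left {S : Type v} [CommRing S] [Algebra k S] (p p' q : A →ₗ[k] S)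
    (h : ∀ c ∈ core k A, p c = p' c) {c : A} (hc : c ∈ core k A) :
    LinearMap.mul' k S (TensorProduct.map p q (CoalgebraStruct.comul (R := k) c)) =
      LinearMap.mul' k S (TensorProduct.map p' q (CoalgebraStruct.comul (R := k) c)) := by
  obtain ⟨z, hz⟩ := ComodLib.isSubcomod_restrictScalars (core k A) c hc
  rw [show CoalgebraStruct.comul (R := k) c = Comod.coact (k := k) (A := A) c from rfl, ← hz]
  clear hz
  induction z with
  | zero => simp
  | tmul x a =>
    simp only [LinearMap.rTensor_tmul, TensorProduct.map_tmul, LinearMap.mul'_apply]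
    rw [show p (((core k A).restrictScalars k).subtype x) = _ from h _ x.2]
  | add x y hx hy => simp only [map_add, hx, hy]

theorem mul_map_comul_congr_right {S : Type v} [CommRing S] [Algebra k S] (p q q' : A →ₗ[k] S)
    (h : ∀ c ∈ core k A, q c = q' c) {c : A} (hc : c ∈ core k A) :
    LinearMap.mul' k S (TensorProduct.map p q (CoalgebraStruct.comul (R := k) c)) =
      LinearMap.mul' k S (TensorProduct.map p q' (CoalgebraStruct.comul (R := k) c)) := by
  classical
  let b := Module.Basis.ofVectorSpace k A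
  let e := TensorProduct.equivFinsuppOfBasisLeft (N := A) b
  have hz : CoalgebraStruct.comul (R := k) c = e.symm (e (CoalgebraStruct.comul (R := k) c)) :=
    (e.symm_apply_apply _).symm
  have hmem : ∀ i, e (CoalgebraStruct.comul (R := k) c) i ∈ core k A := fun i ↦ by
    have : e (CoalgebraStruct.comul (R := k) c) i = ComodLib.coeff (A := A) (b.coord i) c := by
      rw [ComodLib.coeff_apply]
      show _ = ComodLib.sliceL _ (CoalgebraStruct.comul (R := k) c)
      generalize CoalgebraStruct.comul (R := k) c = z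
      induction z with
      | zero => simp
      | add x y hx hy => rw [map_add, Finsupp.add_apply, hx, hy, map_add]
      | tmul x a => simp [e, ComodLib.sliceL]
    rw [this]
    exact map_mem_core _ hc
  rw [hz, show e.symm (e (CoalgebraStruct.comul (R := k) c)) = _ from TensorProduct.equivFinsuppOfBasisLeft_symm_apply b _,
    Finsupp.sum, map_sum, map_sum, map_sum, map_sum]
  refine Finset.sum_congr rfl fun i _ ↦ ?_
  simp only [TensorProduct.map_tmul, LinearMap.mul'_apply]
  rw [h _ (hmem i)]

variable (k A) in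
/-- The ideal of the kernel of all simple representations. -/
def kerJ : Ideal A := Ideal.span ((fun c ↦ c - algebraMap k A (ε c)) '' (core k A : Set A))

theorem sub_mem_kerJ {c : A} (hc : c ∈ core k A) : c - algebraMap k A (ε c) ∈ kerJ k A :=
  Ideal.subset_span ⟨c, hc, rfl⟩

theorem kerJ_le_ker {S : Type v} [CommRing S] [Algebra k S] (φ : A →ₐ[k] S)
    (h : ∀ c ∈ core k A, φ c = algebraMap k S (ε c)) : kerJ k A ≤ RingHom.ker φ := by
  rw [kerJ, Ideal.span_le]
  rintro _ ⟨c, hc, rfl⟩
  show φ (c - algebraMap k A (ε c)) = 0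
  rw [map_sub, AlgHom.commutes, h c hc, sub_self]

theorem mk_eq_of_mem_core {c : A} (hc : c ∈ core k A) :
    Ideal.Quotient.mk (kerJ k A) c = algebraMap k (A ⧸ kerJ k A) (ε c) :=
  Ideal.Quotient.mk_eq_mk_iff_sub_mem _ _ |>.2 (sub_mem_kerJ hc)

/-- A convolution with a factor trivial on the core. -/
theorem conv_left_triv {S : Type v} [CommRing S] [Algebra k S] (p q : A →ₐ[k] S)
    (h : ∀ c ∈ core k A, p c = algebraMap k S (ε c)) {c : A} (hc : c ∈ core k A) :
    (toConv p * toConv q : WithConv (A →ₐ[k] S)) c = q c := by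
  rw [AlgHom.convMul_apply]
  have key : ∀ (r : A →ₗ[k] S) (z : A ⊗[k] A), LinearMap.mul' k S (TensorProduct.map r q.toLinearMap z) =
      LinearMap.mul' k S (TensorProduct.map r q.toLinearMap z) := fun _ _ ↦ rfl
  have e : ∀ z : A ⊗[k] A, Algebra.TensorProduct.lift p q (fun _ _ ↦ Commute.all _ _) z =
      LinearMap.mul' k S (TensorProduct.map p.toLinearMap q.toLinearMap z) := fun z ↦ by
    induction z with
    | zero => simp
    | tmul x y => simp
    | add x y hx hy => simp only [map_add, hx, hy]
  refine Eq.trans (e _) ?_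
  rw [mul_map_comul_congr_left p.toLinearMap (Algebra.linearMap k S ∘ₗ ε) q.toLinearMap h hc]
  conv_rhs => rw [← ComodLib.slice_counit (k := k) (A := A) (V := A) c]
  have h2 := Coalgebra.rTensor_counit_comul (R := k) c
  have e2 : ∀ z : A ⊗[k] A, LinearMap.mul' k S (TensorProduct.map (Algebra.linearMap k S ∘ₗ ε) q.toLinearMap z) =
      q (TensorProduct.lid k A (LinearMap.rTensor A ε z)) := fun z ↦ by
    induction z with
    | zero => simp
    | tmul x y => simp [Algebra.smul_def]
    | add x y hx hy => simp only [map_add, hx, hy]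
  rw [e2, h2, ComodLib.slice_counit]
  simp

theorem conv_right_triv {S : Type v} [CommRing S] [Algebra k S] (p q : A →ₐ[k] S)
    (h : ∀ c ∈ core k A, q c = algebraMap k S (ε c)) {c : A} (hc : c ∈ core k A) :
    (toConv p * toConv q : WithConv (A →ₐ[k] S)) c = p c := by
  rw [AlgHom.convMul_apply]
  have e : ∀ z : A ⊗[k] A, Algebra.TensorProduct.lift p q (fun _ _ ↦ Commute.all _ _) z =
      LinearMap.mul' k S (TensorProduct.map p.toLinearMap q.toLinearMap z) := fun z ↦ by
    induction z with
    | zero => simp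
    | tmul x y => simp
    | add x y hx hy => simp only [map_add, hx, hy]
  refine Eq.trans (e _) ?_
  rw [mul_map_comul_congr_right p.toLinearMap q.toLinearMap (Algebra.linearMap k S ∘ₗ ε) h hc]
  have e2 : ∀ z : A ⊗[k] A, LinearMap.mul' k S (TensorProduct.map p.toLinearMap (Algebra.linearMap k S ∘ₗ ε) z) =
      p (TensorProduct.rid k A (LinearMap.lTensor A ε z)) := fun z ↦ by
    induction z with
    | zero => simp
    | tmul x y => simp [Algebra.smul_def, mul_comm]
    | add x y hx hy => simp only [map_add, hx, hy]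
  rw [e2, Coalgebra.lTensor_counit_comul]
  simp

theorem antipode_triv {S : Type v} [CommRing S] [Algebra k S] (q : A →ₐ[k] S)
    (h : ∀ c ∈ core k A, q c = algebraMap k S (ε c)) {c : A} (hc : c ∈ core k A) :
    q (HopfAlgebraStruct.antipode (R := k) c) = algebraMap k S (ε c) := by
  rw [show q (HopfAlgebraStruct.antipode (R := k) c) = (q.comp (HopfAlgebra.antipodeAlgHom k A)) c from rfl,
    ← conv_right_triv (q.comp (HopfAlgebra.antipodeAlgHom k A)) q h hc, AlgHom.convMul_apply]
  have e : ∀ z : A ⊗[k] A, Algebra.TensorProduct.lift (q.comp (HopfAlgebra.antipodeAlgHom k A)) q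
      (fun _ _ ↦ Commute.all _ _) z =
      q (LinearMap.mul' k A (LinearMap.rTensor A (HopfAlgebraStruct.antipode (R := k)) z)) := fun z ↦ by
    induction z with
    | zero => simp
    | tmul x y => simp
    | add x y hx hy => simp only [map_add, hx, hy]
  refine Eq.trans (e _) ?_
  rw [HopfAlgebra.mul_antipode_rTensor_comul_apply, AlgHom.commutes]

instance isHopfIdeal_kerJ : (kerJ k A).IsHopfIdeal k where
  counit_eq_zero := fun x hx ↦
    (kerJ_le_ker (Bialgebra.counitAlgHom k A) (fun c _ ↦ by simp) : _) hx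
  map_mkQ_comul_eq_zero := fun x hx ↦ by
    let π := Ideal.Quotient.mkₐ k (kerJ k A)
    let Φ := (Algebra.TensorProduct.map π π).comp (Bialgebra.comulAlgHom k A)
    have hπ : ∀ c ∈ core k A, π c = algebraMap k _ (ε c) := fun c hc ↦ mk_eq_of_mem_core hc
    have hΦ : kerJ k A ≤ RingHom.ker Φ := by
      refine kerJ_le_ker Φ fun c hc ↦ ?_
      have e1 : Φ c = (toConv ((Algebra.TensorProduct.includeLeft : _ →ₐ[k] (A ⧸ kerJ k A) ⊗[k] (A ⧸ kerJ k A)).comp π) *
          toConv ((Algebra.TensorProduct.includeRight : _ →ₐ[k] (A ⧸ kerJ k A) ⊗[k] (A ⧸ kerJ k A)).comp π) :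
          WithConv (A →ₐ[k] (A ⧸ kerJ k A) ⊗[k] (A ⧸ kerJ k A))) c := by
        rw [AlgHom.convMul_apply]
        show (Algebra.TensorProduct.map π π) (CoalgebraStruct.comul (R := k) c) = _
        generalize CoalgebraStruct.comul (R := k) c = z
        induction z with
        | zero => simp
        | tmul a b => simp
        | add a b ha hb => simp only [map_add, ha, hb]
      rw [e1, conv_right_triv _ _ (fun c hc ↦ by rw [AlgHom.comp_apply, hπ c hc, AlgHom.commutes]) hc,
        AlgHom.comp_apply, hπ c hc, AlgHom.commutes]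
    have h := hΦ hx
    rw [RingHom.mem_ker] at h
    exact Eq.trans (by rfl) h
  antipode_mem := fun x hx ↦ by
    have := (kerJ_le_ker ((Ideal.Quotient.mkₐ k (kerJ k A)).comp (HopfAlgebra.antipodeAlgHom k A))
      (fun c hc ↦ antipode_triv (Ideal.Quotient.mkₐ k (kerJ k A)) (fun c hc ↦ mk_eq_of_mem_core hc) hc)) hx
    exact Ideal.Quotient.eq_zero_iff_mem.1 this

local notation "𝔹" => A ⧸ kerJ k A

theorem mk_smul (f : ComodLib.Dual' k 𝔹) (a : A) :
    f • Ideal.Quotient.mk (kerJ k A) a =
      Ideal.Quotient.mk (kerJ k A) ((toConv (f.ofConv ∘ₗ (Ideal.Quotient.mkₐ k (kerJ k A)).toLinearMap) : 𝔸) • a) := by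
  show ComodLib.slice f.ofConv (CoalgebraStruct.comul (R := k) (Ideal.Quotient.mk (kerJ k A) a)) =
    Ideal.Quotient.mk (kerJ k A) (ComodLib.slice _ (CoalgebraStruct.comul (R := k) a))
  have h : CoalgebraStruct.comul (R := k) (Ideal.Quotient.mk (kerJ k A) a) =
      TensorProduct.map (Ideal.Quotient.mkₐ k (kerJ k A)).toLinearMap (Ideal.Quotient.mkₐ k (kerJ k A)).toLinearMap
        (CoalgebraStruct.comul (R := k) a) := rfl
  rw [h]
  generalize CoalgebraStruct.comul (R := k) a = z
  induction z with
  | zero => simp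
  | tmul x y =>
    simp only [TensorProduct.map_tmul, ComodLib.slice_tmul, LinearMap.comp_apply]
    exact (map_smul (Ideal.Quotient.mkₐ k (kerJ k A)) _ _).symm
  | add x y hx hy => simp only [map_add, hx, hy]

/-- The kernel is unipotent. -/
theorem exhaustive (b : 𝔹) : ∃ n, b ∈ Groth.Agent.UnipHopf.K k 𝔹 n := by
  obtain ⟨a, rfl⟩ := Ideal.Quotient.mk_surjective b
  suffices H : ∀ (n : ℕ) (M : Submodule 𝔸 A), Module.Finite k M → Module.finrank k M ≤ n → ∀ a ∈ M,
      Ideal.Quotient.mk (kerJ k A) a ∈ Groth.Agent.UnipHopf.K k 𝔹 n from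
    ⟨_, H _ (Submodule.span 𝔸 {a}) (ComodLib.finite_span_singleton A a) le_rfl a (Submodule.subset_span rfl)⟩
  intro n
  induction n with
  | zero =>
    intro M hM hn a ha
    haveI := hM
    have : Subsingleton M := Module.finrank_zero_iff.1 (Nat.le_zero.1 hn)
    rw [show a = 0 from congrArg Subtype.val (Subsingleton.elim (⟨a, ha⟩ : M) 0), map_zero]
    exact zero_mem _
  | succ n ih =>
    intro M hM hn a ha
    haveI := hM
    haveI : FiniteDimensional k (M.restrictScalars k) := hM
    rw [Groth.Agent.UnipHopf.mem_K_succ]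
    intro f hf
    rw [mk_smul]
    set F : 𝔸 := toConv (f.ofConv ∘ₗ (Ideal.Quotient.mkₐ k (kerJ k A)).toLinearMap) with hF
    by_cases ha0 : a = 0
    · rw [ha0, smul_zero, map_zero]; exact zero_mem _
    haveI : IsNoetherian k M := inferInstance
    haveI : IsNoetherian 𝔸 M := isNoetherian_of_tower k inferInstance
    obtain ⟨M₁, hM₁, -⟩ := (eq_top_or_exists_le_coatom (⊥ : Submodule 𝔸 M)).resolve_left
      (fun h ↦ ha0 (by
        have : (⟨a, ha⟩ : M) ∈ (⊥ : Submodule 𝔸 M) := h ▸ trivial
        exact congrArg Subtype.val ((Submodule.mem_bot 𝔸).1 this)))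
    haveI : IsSimpleModule 𝔸 (M ⧸ M₁) := isSimpleModule_iff_isCoatom.2 hM₁
    let M' : Submodule 𝔸 A := M₁.map M.subtype
    have hlt : M' < M := by
      refine lt_of_le_of_ne (fun x ⟨y, _, hy⟩ ↦ hy ▸ y.2) fun h ↦ hM₁.1 (eq_top_iff.2 fun y _ ↦ ?_)
      have : (y : A) ∈ M' := by rw [h]; exact y.2
      obtain ⟨y', hy', he⟩ := this
      rwa [← Subtype.ext he]
    haveI : Module.Finite k M' := Submodule.finiteDimensional_of_le (S₂ := M.restrictScalars k)
      (show M'.restrictScalars k ≤ M.restrictScalars k from hlt.le)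
    have hrk : Module.finrank k M' ≤ n := by
      have := Submodule.finrank_lt_finrank_of_lt (show M'.restrictScalars k < M.restrictScalars k from
        lt_of_le_of_ne hlt.le fun h ↦ hlt.ne (Submodule.restrictScalars_injective k _ _ h))
      change Module.finrank k M' < Module.finrank k M at this
      omega
    refine ih M' inferInstance hrk _ ?_
    -- `F` maps `M` into `M'`
    have hFcore : ∀ c ∈ core k A, F c = 0 := fun c hc ↦ by
      show f.ofConv (Ideal.Quotient.mk (kerJ k A) c) = 0
      rw [mk_eq_of_mem_core hc, Algebra.algebraMap_eq_smul_one, map_smul, show f.ofConv 1 = 0 from hf, smul_zero]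
    by_contra hne
    obtain ⟨α, hα1, hα⟩ := Submodule.exists_dual_map_eq_bot_of_notMem
      (show F • a ∉ M'.restrictScalars k from hne) inferInstance
    apply hα1
    rw [← ComodLib.counit_coeff (A := A) α, LinearMap.map_smul, ComodLib.counit_smul]
    refine hFcore _ ?_
    let ψ : M →ₗ[𝔸] A := ComodLib.coeff α ∘ₗ M.subtype
    have hker : M₁ ≤ LinearMap.ker ψ := fun y hy ↦ by
      show ComodLib.coeff α (y : A) = 0
      by_contra h0
      obtain ⟨β, hβ, -⟩ := Submodule.exists_dual_map_eq_bot_of_notMem (p := (⊥ : Submodule k A))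
        (by simpa using h0) inferInstance
      apply hβ
      rw [show β (ComodLib.coeff α (y : A)) = (toConv β : 𝔸) (ComodLib.coeff α (y : A)) from rfl,
        ← ComodLib.counit_smul, ← LinearMap.map_smul, ComodLib.counit_coeff]
      have hmem : (toConv β : 𝔸) • (y : A) ∈ M'.restrictScalars k := M'.smul_mem _ ⟨y, hy, rfl⟩
      have : α ((toConv β : 𝔸) • (y : A)) ∈ (M'.restrictScalars k).map α := Submodule.mem_map_of_mem hmem
      rwa [hα, Submodule.mem_bot] at this
    have hr : ComodLib.coeff α a = M₁.liftQ ψ hker (Submodule.Quotient.mk ⟨a, ha⟩) := rfl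
    rw [hr]
    rcases LinearMap.injective_or_eq_zero (M₁.liftQ ψ hker) with hi | h0
    · exact le_sSup (show LinearMap.range (M₁.liftQ ψ hker) ∈ {m : Submodule 𝔸 A | IsSimpleModule 𝔸 m} from
        IsSimpleModule.congr (LinearEquiv.ofInjective _ hi).symm) (LinearMap.mem_range_self _ _)
    · rw [h0]; exact zero_mem _

section group

variable [IsAlgClosed k]

/-- The coefficient at the trivial character. -/
def laurInt (r : ℕ) : Laur k r →ₗ[k] k := (MonoidAlgebra.basis (Multiplicative (Fin r → ℤ)) k).coord 1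

omit [IsAlgClosed k] in
theorem laurInt_single (r : ℕ) (m : Multiplicative (Fin r → ℤ)) (a : k) :
    laurInt r (MonoidAlgebra.single m a) = if m = 1 then a else 0 := by
  show (Finsupp.single m a : Multiplicative (Fin r → ℤ) →₀ k) 1 = _
  rw [Finsupp.single_apply]

theorem hasNoSubtorus_kerJ : Red.HasNoSubtorus k (sp k 𝔹) := by
  intro T _ j _ _ hT
  obtain ⟨r, v, hv, hv'⟩ := exists_laurent_iso hT
  obtain ⟨φ, hφ⟩ := Groth.Agent.DiagRep.exists_pt (v.hom ≫ j)
  haveI : IsMonHom (pt φ) := by rw [← hφ]; infer_instance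
  have hc := Groth.Agent.DiagRep.counit_comp_of_isMonHom φ
  have hΔ := Groth.Agent.DiagRep.comul_comp_of_isMonHom φ
  have key : ∀ b, φ b = algebraMap k _ (CoalgebraStruct.counit (R := k) b) := fun b ↦ by
    obtain ⟨n, hn⟩ := exhaustive b
    rw [Algebra.algebraMap_eq_smul_one]
    refine Groth.Agent.UnipHopf.eq_counit_of_mem_K (R := k) φ.toLinearMap (map_one φ) (fun a ↦ ?_) (laurInt r) ?_ ?_ hn
    · have h := DFunLike.congr_fun (congrArg WithConv.ofConv hΔ) a
      rw [AlgHom.convMul_apply] at h
      refine Eq.trans h ?_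
      generalize CoalgebraStruct.comul (R := k) a = z
      induction z with
      | zero => simp
      | tmul x y => simp
      | add x y hx hy => simp only [map_add, hx, hy]
    · simp [laurInt_single, MonoidAlgebra.one_def]
    · intro c
      induction c using MonoidAlgebra.induction_linear with
      | zero => simp
      | add x y hx hy => simp only [map_add, hx, hy, TensorProduct.add_tmul]
      | single m a =>
        rw [MonoidAlgebra.comul_single]
        by_cases hm : m = 1
        · subst hm
          simp [laurInt_single, MonoidAlgebra.one_def, TensorProduct.smul_tmul', ← TensorProduct.tmul_smul]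
          rw [show MonoidAlgebra.single (1 : Multiplicative (Fin r → ℤ)) a = a • MonoidAlgebra.single 1 1 by simp,
            TensorProduct.tmul_smul, TensorProduct.smul_tmul', smul_eq_mul, mul_one]
        · simp [laurInt_single, MonoidAlgebra.one_def, hm]
  have h1 : v.hom ≫ j = 1 := by
    rw [hφ, one_eq_pt]
    exact congrArg pt (AlgHom.ext key)
  have h2 : v.hom = 1 := by rw [← cancel_mono j, h1, MonObj.one_comp]
  have h3 : 𝟙 T = 1 := by rw [← v.inv_hom_id, h2, MonObj.comp_one]
  haveI : IsIso (toUnit T) := ⟨η[T], by rw [← Hom.one_def, ← h3], toUnit_unique _ _⟩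
  show IsIso T.hom
  rw [show T.hom = (toUnit T).left from (Over.w (toUnit T)).symm.trans (Category.comp_id _)]
  exact (Over.forget _).map_isIso (toUnit T)

variable [CharZero k] [Algebra.FiniteType k A]

theorem connectedSpace_kerJ : ConnectedSpace ↥(Spec (CommRingCat.of 𝔹)) := by
  haveI : Nontrivial 𝔹 := (Bialgebra.counitAlgHom k 𝔹).toRingHom.domain_nontrivial
  haveI : IsReduced 𝔹 := Groth.Agent.GrpSchLib.HopfRed.isReduced_of_finiteType (k := k)
  refine ConnBC.connectedSpace_spec (A := 𝔹) fun e he ↦ ?_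
  have he' : e * e = e := he
  have hpts : ∀ g : 𝔹 →ₐ[k] k, g (e - algebraMap k 𝔹 (CoalgebraStruct.counit (R := k) e)) = 0 := fun g ↦ by
    obtain ⟨φ, hφ⟩ := Groth.Agent.UnipHopf.exists_path (fun a ↦ exhaustive (A := A) a) (toConv g)
    have h0 := hφ 0 e
    have h1 := hφ 1 e
    rw [pow_zero, AlgHom.convOne_apply, Algebra.algebraMap_self, RingHom.id_apply] at h0
    rw [pow_one] at h1
    have hid : IsIdempotentElem (φ e) := by rw [IsIdempotentElem, ← map_mul, he']
    rw [map_sub, AlgHom.commutes, Algebra.algebraMap_self, RingHom.id_apply, sub_eq_zero, ← h0]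
    show (toConv g) e = _
    rw [← h1]
    rcases IsIdempotentElem.iff_eq_zero_or_one.1 hid with h | h <;> simp [h]
  have hnil := Groth.Agent.UnipHopf.isNilpotent_of_forall_point hpts
  have he2 := sub_eq_zero.1 hnil.eq_zero
  have hid : IsIdempotentElem (CoalgebraStruct.counit (R := k) e) := by
    rw [IsIdempotentElem, ← Bialgebra.counit_mul, he']
  rcases IsIdempotentElem.iff_eq_zero_or_one.1 hid with h | h
  · exact Or.inl (by rw [he2, h, map_zero])
  · exact Or.inr (by rw [he2, h, map_one])

theorem smooth_kerJ : Smooth (sp k 𝔹).hom := by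
  haveI : LocallyOfFiniteType (sp k 𝔹).hom :=
    (HasRingHomProperty.Spec_iff (P := @LocallyOfFiniteType)).2
      (RingHom.finiteType_algebraMap.2 inferInstance)
  exact Groth.Agent.GrpSchLib.smooth_of_charZero (sp k 𝔹)

omit [IsAlgClosed k] [CharZero k] [Algebra.FiniteType k A] in
theorem isNormalHom_kerJ : AlgGrp.IsNormalHom (pt (Ideal.Quotient.mkₐ k (kerJ k A))) := by
  intro T g n
  let π := Ideal.Quotient.mkₐ k (kerJ k A)
  let iL : A →ₐ[k] A ⊗[k] 𝔹 := Algebra.TensorProduct.includeLeft
  let iR : 𝔹 →ₐ[k] A ⊗[k] 𝔹 := Algebra.TensorProduct.includeRight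
  let ψ : A →ₐ[k] A ⊗[k] 𝔹 :=
    (toConv iL * toConv (iR.comp π) * toConv (iL.comp (HopfAlgebra.antipodeAlgHom k A))).ofConv
  have hψ : kerJ k A ≤ RingHom.ker ψ := by
    refine kerJ_le_ker ψ fun c hc ↦ ?_
    have h1 : ∀ c ∈ core k A, (iR.comp π) c = algebraMap k _ (ε c) := fun c hc ↦ by
      rw [AlgHom.comp_apply, show π c = _ from mk_eq_of_mem_core hc, AlgHom.commutes]
    show ((toConv iL * toConv (iR.comp π)) * toConv (iL.comp (HopfAlgebra.antipodeAlgHom k A))) c = _
    refine Eq.trans (congrArg (fun f : WithConv (A →ₐ[k] A ⊗[k] 𝔹) ↦ f c)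
      (mul_assoc (toConv iL : WithConv (A →ₐ[k] A ⊗[k] 𝔹)) _ _)) ?_
    have h2 : ∀ c ∈ core k A, (toConv (iR.comp π) * toConv (iL.comp (HopfAlgebra.antipodeAlgHom k A))).ofConv c =
        (iL.comp (HopfAlgebra.antipodeAlgHom k A)) c := fun c hc ↦ conv_left_triv _ _ h1 hc
    rw [AlgHom.convMul_apply]
    have e : ∀ (q : A →ₐ[k] A ⊗[k] 𝔹) (z : A ⊗[k] A), Algebra.TensorProduct.lift iL q
        (fun _ _ ↦ Commute.all _ _) z = LinearMap.mul' k _ (TensorProduct.map iL.toLinearMap q.toLinearMap z) :=
      fun q z ↦ by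
        induction z with
        | zero => simp
        | tmul x y => simp
        | add x y hx hy => simp only [map_add, hx, hy]
    refine Eq.trans (e _ _) ?_
    rw [mul_map_comul_congr_right iL.toLinearMap _ (iL.comp (HopfAlgebra.antipodeAlgHom k A)).toLinearMap h2 hc]
    have e2 : ∀ z : A ⊗[k] A, LinearMap.mul' k _ (TensorProduct.map iL.toLinearMap
        (iL.comp (HopfAlgebra.antipodeAlgHom k A)).toLinearMap z) =
        iL (LinearMap.mul' k A (LinearMap.lTensor A (HopfAlgebraStruct.antipode (R := k)) z)) := fun z ↦ by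
      induction z with
      | zero => simp
      | tmul x y => simp
      | add x y hx hy => simp only [map_add, hx, hy]
    rw [e2, HopfAlgebra.mul_antipode_lTensor_comul_apply, AlgHom.commutes]
  let ψ' : 𝔹 →ₐ[k] A ⊗[k] 𝔹 := Ideal.Quotient.liftₐ (kerJ k A) ψ (fun a ha ↦ hψ ha)
  let μ' := Functor.LaxMonoidal.μ (algSpec (CommRingCat.of k)) (Opposite.op (CommAlgCat.of k A))
    (Opposite.op (CommAlgCat.of k 𝔹))
  have hsec : lift (pt iL) (pt iR) ≫ μ' = 𝟙 _ := by
    rw [lift_pt_pt]
    refine (congrArg pt ?_).trans pt_id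
    exact Algebra.TensorProduct.ext' fun a b ↦ by simp [iL, iR]
  have hinv : μ' ≫ lift (pt iL) (pt iR) = 𝟙 _ := by
    rw [← cancel_mono μ', Category.assoc, hsec]
    exact (Category.comp_id _).trans (Category.id_comp _).symm
  let P : T ⟶ sp k (A ⊗[k] 𝔹) := lift g n ≫ μ'
  have hg : P ≫ pt iL = g := by
    rw [show pt iL = lift (pt iL) (pt iR) ≫ fst _ _ from (lift_fst _ _).symm]
    simp only [P, Category.assoc]
    rw [reassoc_of% hinv]
    exact lift_fst g n
  have hn : P ≫ pt iR = n := by
    rw [show pt iR = lift (pt iL) (pt iR) ≫ snd _ _ from (lift_snd _ _).symm]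
    simp only [P, Category.assoc]
    rw [reassoc_of% hinv]
    exact lift_snd g n
  refine ⟨P ≫ pt ψ', ?_⟩
  have e : pt iL * (pt iR ≫ pt π) * (pt iL)⁻¹ = pt ψ' ≫ pt π := by
    rw [← pt_comp, ← pt_comp, pt_inv, Groth.Agent.DiagRep.pt_mul_conv, Groth.Agent.DiagRep.pt_mul_conv]
    congr 1
  rw [Category.assoc, ← e, MonObj.comp_mul, MonObj.comp_mul, GrpObj.comp_inv, ← Category.assoc, hg, hn]

/-- For a reductive group, no nonzero point derivation kills every simple representation. -/
theorem hasReductiveLie_of_isReductiveOver (h : Red.IsReductiveOver k (sp k A)) : HasReductiveLie k A := by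
  intro x hx hcore
  let π := Ideal.Quotient.mkₐ k (kerJ k A)
  haveI : IsMonHom (pt π) :=
    Groth.Agent.DiagRep.isMonHom_pt π (AlgHom.ext fun _ ↦ rfl) (AlgHom.ext fun _ ↦ rfl)
  have hcl : IsClosedImmersion (pt π).left := by
    rw [pt_left]
    exact IsClosedImmersion.spec_of_surjective _ Ideal.Quotient.mk_surjective
  have htriv := h.2.2.2 (sp k 𝔹) (pt π) hcl smooth_kerJ connectedSpace_kerJ isNormalHom_kerJ hasNoSubtorus_kerJ
  haveI : IsIso (Spec.map (CommRingCat.ofHom (algebraMap k 𝔹))) := htriv
  haveI : IsIso (CommRingCat.ofHom (algebraMap k 𝔹)) := by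
    haveI : IsIso (Scheme.Spec.map (CommRingCat.ofHom (algebraMap k 𝔹)).op) := htriv
    haveI := isIso_of_reflects_iso (CommRingCat.ofHom (algebraMap k 𝔹)).op Scheme.Spec
    exact isIso_of_op _
  have hsurj : Function.Surjective (algebraMap k 𝔹) :=
    (ConcreteCategory.bijective_of_isIso (CommRingCat.ofHom (algebraMap k 𝔹))).2
  have hx1 := hx.algebraMap
  suffices h0 : ∀ a, x.ofConv a = 0 by
    have h1 : x.ofConv = 0 := LinearMap.ext h0
    rw [← WithConv.toConv_ofConv x, h1]
    exact WithConv.toConv_zero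
  intro a
  obtain ⟨r, hr⟩ := hsurj (π a)
  have hmem : a - algebraMap k A r ∈ kerJ k A := by
    rw [← Ideal.Quotient.eq_zero_iff_mem, map_sub, sub_eq_zero]
    exact hr.symm
  have hJ : ∀ y ∈ kerJ k A, x y = 0 ∧ ε y = 0 := fun y hy ↦ by
    induction hy using Submodule.span_induction with
    | mem y hy =>
      obtain ⟨c, hc, rfl⟩ := hy
      refine ⟨?_, (map_sub ε _ _).trans (sub_eq_zero.2 (Bialgebra.counit_algebraMap _).symm)⟩
      show x.ofConv (c - algebraMap k A (ε c)) = 0
      rw [map_sub, show x.ofConv c = 0 from hcore c hc, show x.ofConv (algebraMap k A (ε c)) = 0 from hx1 _, sub_zero]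
    | zero => exact ⟨map_zero x.ofConv, map_zero ε⟩
    | add y z _ _ hy hz =>
      refine ⟨?_, by rw [map_add, hy.2, hz.2, add_zero]⟩
      show x.ofConv (y + z) = 0
      rw [map_add, show x.ofConv y = 0 from hy.1, show x.ofConv z = 0 from hz.1, add_zero]
    | smul b y _ hy =>
      rw [smul_eq_mul]
      exact ⟨by rw [hx b y, hy.1, hy.2, mul_zero, zero_mul, add_zero], by rw [Bialgebra.counit_mul, hy.2, mul_zero]⟩
  have := (hJ _ hmem).1
  change x.ofConv (a - algebraMap k A r) = 0 at this
  rwa [map_sub, show x.ofConv (algebraMap k A r) = 0 from hx1 r, sub_zero] at this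

omit [IsAlgClosed k] in
theorem isDomain_of_connected (hs : Smooth (sp k A).hom) (hc : ConnectedSpace ↥(Spec (CommRingCat.of A))) :
    IsDomain A := by
  haveI := hc
  haveI : IsNoetherianRing A := Algebra.FiniteType.isNoetherianRing k A
  haveI : IsNoetherian (Spec (CommRingCat.of A)) := inferInstance
  haveI : ∀ x : Spec (CommRingCat.of A), IsDomain ((Spec (CommRingCat.of A)).presheaf.stalk x) := fun x =>
    haveI : IsRegularLocalRing ((Spec (CommRingCat.of A)).presheaf.stalk x) := by
      haveI : Algebra.Smooth k A := RingHom.smooth_algebraMap.1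
        ((HasRingHomProperty.Spec_iff (P := @Smooth) (φ := CommRingCat.ofHom (algebraMap k A))).1 hs)
      haveI : Algebra.FormallySmooth k (Localization.AtPrime x.asIdeal) :=
        Algebra.FormallySmooth.comp k A (Localization.AtPrime x.asIdeal)
      haveI := CohenLib.isRegularLocalRing_of_formallySmooth (k := k) (A := Localization.AtPrime x.asIdeal)
      exact IsRegularLocalRing.of_ringEquiv
        (IsLocalization.algEquiv x.asIdeal.primeCompl (Localization.AtPrime x.asIdeal)
          ((Spec.structureSheaf A).presheaf.stalk x)).toRingEquiv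
    CommAlgDim.isDomain_of_isRegularLocalRing _
  haveI := isIntegral_of_connected (X := Spec (CommRingCat.of A))
  exact (affine_isIntegral_iff (CommRingCat.of A)).1 inferInstance

theorem isLinearlyReductive_of_isReductiveOver (h : Red.IsReductiveOver k (sp k A)) : IsLinearlyReductive k A := by
  haveI : IsNoetherianRing A := Algebra.FiniteType.isNoetherianRing k A
  haveI : IsDomain A := isDomain_of_connected h.2.1 h.2.2.1
  exact isLinearlyReductive (hasReductiveLie_of_isReductiveOver h)

end group

end RedCharZeroLib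

end
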