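import Groth.Agent.ComodLib.Coeff
import Groth.Agent.UnipHopfLib.Socle
import Groth.Agent.GrpSchLib.HopfDim
import Mathlib.Algebra.Lie.OfAssociative
import Mathlib.Algebra.Lie.Subalgebra
import Mathlib.RingTheory.Filtration

/-!
# The Lie algebra of point derivations, and what it detects in characteristic zero

An element of the coordinate ring killed by all products of point derivations is zero: the Euler operator
built from dual derivations multiplies the `n`-th graded piece at the origin by `n`.
-/

set_option autoImplicit false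

noncomputable section

universe u v w

open TensorProduct HopfRep WithConv
open scoped ComodLib

namespace RedCharZeroLib

variable {k : Type u} [Field k] {A : Type v} [CommRing A] [HopfAlgebra k A]

local notation "𝔸" => ComodLib.Dual' k A
local notation "ε" => CoalgebraStruct.counit (R := k) (A := A)

attribute [local instance 100] LieRing.ofAssociativeRing

/-- Point derivations at the origin. -/
def IsDer (x : 𝔸) : Prop := ∀ a b : A, x (a * b) = ε a * x b + ε b * x a

theorem apply_smul (f g : 𝔸) (a : A) : f (g • a) = (f * g) a := by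
  rw [← ComodLib.counit_smul f (g • a), ← mul_smul, ComodLib.counit_smul]

theorem IsDer.one {x : 𝔸} (hx : IsDer x) : x (1 : A) = 0 := by
  have h := hx 1 1
  rw [one_mul, Bialgebra.counit_one, one_mul] at h
  exact left_eq_add.mp h

theorem IsDer.algebraMap {x : 𝔸} (hx : IsDer x) (c : k) : x (algebraMap k A c) = 0 := by
  rw [Algebra.algebraMap_eq_smul_one]
  show x.ofConv (c • 1) = 0
  rw [map_smul, show x.ofConv (1 : A) = 0 from hx.one, smul_zero]

theorem IsDer.smul_mul {x : 𝔸} (hx : IsDer x) (a b : A) :
    x • (a * b) = a * (x • b) + b * (x • a) := by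
  have e : ∀ c : A, c = ComodLib.slice ε (CoalgebraStruct.comul (R := k) c) := fun c ↦
    (ComodLib.slice_counit (k := k) (A := A) (V := A) c).symm
  conv_rhs => arg 1; arg 1; rw [e a]
  conv_rhs => arg 2; arg 1; rw [e b]
  show ComodLib.slice x.ofConv (CoalgebraStruct.comul (R := k) (a * b)) =
    _ * ComodLib.slice x.ofConv (CoalgebraStruct.comul (R := k) b) +
      _ * ComodLib.slice x.ofConv (CoalgebraStruct.comul (R := k) a)
  rw [Bialgebra.comul_mul]
  generalize CoalgebraStruct.comul (R := k) a = z
  generalize CoalgebraStruct.comul (R := k) b = w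
  induction z with
  | zero => simp
  | add p q hp hq => simp only [add_mul, mul_add, map_add, hp, hq]; abel
  | tmul p q =>
    induction w with
    | zero => simp
    | add r s hr hs => simp only [add_mul, mul_add, map_add, hr, hs]; abel
    | tmul r s =>
      simp only [Algebra.TensorProduct.tmul_mul_tmul, ComodLib.slice_tmul, show x.ofConv (q * s) = _ from hx q s,
        add_smul, smul_mul_smul_comm, mul_comm r p, mul_comm (CoalgebraStruct.counit (R := k) s) (x q)]

variable (k A) in
/-- The Lie algebra of the group. -/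
def lieAlg : LieSubalgebra k 𝔸 where
  carrier := {x | IsDer x}
  zero_mem' a b := by show (0 : k) = _ * (0 : k) + _ * (0 : k); simp
  add_mem' {x y} hx hy a b := by
    show x (a * b) + y (a * b) = ε a * (x b + y b) + ε b * (x a + y a)
    rw [hx a b, hy a b]; ring
  smul_mem' c x hx a b := by
    show c * x (a * b) = ε a * (c * x b) + ε b * (c * x a)
    rw [hx a b]; ring
  lie_mem' {x y} hx hy a b := by
    have key : ∀ f g : 𝔸, IsDer f → IsDer g → (f * g) (a * b) =
        ε a * (f * g) b + ε b * (f * g) a + (g a * f b + g b * f a) := fun f g hf hg ↦ by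
      rw [← apply_smul, hg.smul_mul]
      show f.ofConv (_ + _) = _
      rw [map_add, show f.ofConv (a * (g • b)) = _ from hf _ _, show f.ofConv (b * (g • a)) = _ from hf _ _,
        ComodLib.counit_smul, ComodLib.counit_smul, apply_smul, apply_smul]
      ring
    rw [Ring.lie_def]
    show (x * y) (a * b) - (y * x) (a * b) = ε a * ((x * y) b - (y * x) b) + ε b * ((x * y) a - (y * x) a)
    rw [key x y hx hy, key y x hy hx]; ring

theorem mem_lieAlg {x : 𝔸} : x ∈ lieAlg k A ↔ IsDer x := Iff.rfl

variable (k A) in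
/-- Elements killed by all products of point derivations. -/
def dead : Submodule k A where
  carrier := {a | ∀ f ∈ Submonoid.closure {x : 𝔸 | IsDer x}, f a = 0}
  zero_mem' f _ := map_zero f.ofConv
  add_mem' {a b} ha hb f hf := by
    show f.ofConv (a + b) = 0
    rw [map_add, show f.ofConv a = 0 from ha f hf, show f.ofConv b = 0 from hb f hf, add_zero]
  smul_mem' c a ha f hf := by
    show f.ofConv (c • a) = 0
    rw [map_smul, show f.ofConv a = 0 from ha f hf, smul_zero]

theorem counit_eq_zero_of_mem_dead {a : A} (ha : a ∈ dead k A) : ε a = 0 := by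
  have := ha 1 (one_mem _)
  rwa [LinearMap.convOne_apply, Algebra.algebraMap_self, RingHom.id_apply] at this

theorem smul_mem_dead {x : 𝔸} (hx : IsDer x) {a : A} (ha : a ∈ dead k A) : x • a ∈ dead k A := fun f hf ↦ by
  rw [apply_smul]
  exact ha _ (mul_mem hf (Submonoid.subset_closure hx))

open Groth.Agent.GrpSchLib.HopfRed

/-- The Euler operator. -/
theorem exists_euler [IsNoetherianRing A] :
    ∃ (ι : Type v) (_ : Fintype ι) (x : ι → A) (ξ : ι → 𝔸), (∀ i, x i ∈ augI k A) ∧ (∀ i, IsDer (ξ i)) ∧
      ∀ a ∈ augI k A, (∑ i, x i * (ξ i • a)) - a ∈ augI k A ^ 2 := by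
  classical
  haveI := finite_cotangent (k := k) (B := A)
  let b := Module.Free.chooseBasis k (augI k A).Cotangent
  choose y hy using fun i ↦ (augI k A).toCotangent_surjective (b i)
  let ξ : _ → 𝔸 := fun i ↦ toConv (b.coord i ∘ₗ cotProj k A)
  have hξ : ∀ i, IsDer (ξ i) := fun i p q ↦ by
    show b.coord i (cotProj k A (p * q)) = _
    rw [cotProj_mul, map_add, map_smul, map_smul]
    rfl
  refine ⟨_, inferInstance, fun i ↦ (y i : A), ξ, fun i ↦ (y i).2, hξ, fun a ha ↦ ?_⟩
  have h1 : ∀ i, (y i : A) * (ξ i • a) - ξ i a • (y i : A) ∈ augI k A ^ 2 := fun i ↦ by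
    rw [Algebra.smul_def, mul_comm (algebraMap k A _), ← mul_sub, pow_two]
    refine Ideal.mul_mem_mul (y i).2 ?_
    rw [← ComodLib.counit_smul (ξ i) a]
    exact sub_mem_augI _
  have hm : (∑ i, ξ i a • (y i : A)) ∈ augI k A :=
    sum_mem fun i _ ↦ by rw [Algebra.smul_def]; exact Ideal.mul_mem_left _ _ (y i).2
  have h2 : (∑ i, ξ i a • (y i : A)) - a ∈ augI k A ^ 2 := by
    rw [← Ideal.toCotangent_eq (I := augI k A) (x := ⟨_, hm⟩) (y := ⟨a, ha⟩), ← cotProj_of_mem hm,
      ← cotProj_of_mem ha, map_sum]
    conv_rhs => rw [← b.sum_repr (cotProj k A a)]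
    refine Finset.sum_congr rfl fun i _ ↦ ?_
    rw [map_smul, cotProj_of_mem (y i).2, Subtype.coe_eta, hy]
    rfl
  have := add_mem (Ideal.sum_mem _ (fun i (_ : i ∈ Finset.univ) ↦ h1 i)) h2
  rw [Finset.sum_sub_distrib, sub_add_sub_cancel] at this
  exact this

variable [CharZero k]

theorem dead_le_pow [IsNoetherianRing A] (n : ℕ) {a : A} (ha : a ∈ dead k A) : a ∈ augI k A ^ n := by
  obtain ⟨ι, _, x, ξ, hx, hξ, hE⟩ := exists_euler (k := k) (A := A)
  let E : A → A := fun a ↦ ∑ i, x i * (ξ i • a)
  have hmul : ∀ p q, E (p * q) = p * E q + q * E p := fun p q ↦ by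
    simp only [E, Finset.mul_sum, ← Finset.sum_add_distrib, (hξ _).smul_mul]
    exact Finset.sum_congr rfl fun i _ ↦ by ring
  have hadd : ∀ p q, E (p + q) = E p + E q := fun p q ↦ by
    simp only [E, smul_add, mul_add, Finset.sum_add_distrib]
  have hdeg : ∀ m : ℕ, ∀ b ∈ augI k A ^ (m + 1), E b - (m + 1) • b ∈ augI k A ^ (m + 2) := by
    intro m
    induction m with
    | zero => intro b hb; rw [zero_add, pow_one] at hb; simpa using hE b hb
    | succ m ihm =>
      intro b hb
      rw [pow_succ] at hb
      induction hb using Submodule.mul_induction_on' with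
      | mem_mul_mem p hp q hq =>
        rw [hmul]
        have h1 := Ideal.mul_mem_mul hp (hE q hq)
        have h2 := Ideal.mul_mem_mul hq (ihm p hp)
        rw [← pow_add] at h1
        rw [← pow_succ'] at h2
        convert add_mem h1 h2 using 1
        simp only [E, nsmul_eq_mul, Nat.cast_add, Nat.cast_one]
        ring
      | add p _ q _ hp hq =>
        convert add_mem hp hq using 1
        rw [hadd, smul_add]; abel
  induction n generalizing a with
  | zero => simp
  | succ n ih =>
    rcases n with _ | m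
    · rw [zero_add, pow_one, RingHom.mem_ker]; exact counit_eq_zero_of_mem_dead ha
    · have h1 : E a ∈ augI k A ^ (m + 2) := sum_mem fun i _ ↦ by
        rw [pow_succ']
        exact Ideal.mul_mem_mul (hx i) (ih (smul_mem_dead (hξ i) ha))
      have h2 := sub_mem h1 (hdeg m a (ih ha))
      rw [sub_sub_cancel] at h2
      have h3 := Ideal.mul_mem_left (augI k A ^ (m + 2)) (algebraMap k A ((m + 1 : ℕ) : k)⁻¹) h2
      rwa [nsmul_eq_mul, ← mul_assoc, ← map_natCast (algebraMap k A), ← map_mul,
        inv_mul_cancel₀ (Nat.cast_ne_zero.2 m.succ_ne_zero), map_one, one_mul] at h3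

theorem eq_zero_of_mem_dead [IsNoetherianRing A] [IsDomain A] {a : A} (ha : a ∈ dead k A) : a = 0 := by
  have h : a ∈ ⨅ n : ℕ, augI k A ^ n := (Submodule.mem_iInf _).2 fun n ↦ dead_le_pow n ha
  rwa [Ideal.iInf_pow_eq_bot_of_isDomain _ (RingHom.ker_ne_top _), Submodule.mem_bot] at h

section comod

variable [IsNoetherianRing A] [IsDomain A] {V : Type w} [AddCommGroup V] [Module k V] [Comod k A V]

/-- A subspace stable under the point derivations is a subcomodule. -/
theorem smul_mem_of_lie {S : Submodule k V} (hS : ∀ x : 𝔸, IsDer x → ∀ v ∈ S, x • v ∈ S) (f : 𝔸) {v : V}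
    (hv : v ∈ S) : f • v ∈ S := by
  have hprod : ∀ g ∈ Submonoid.closure {x : 𝔸 | IsDer x}, g • v ∈ S := by
    intro g hg
    induction hg using Submonoid.closure_induction_left with
    | one => rwa [one_smul]
    | mul_left x hx g _ ih => rw [mul_smul]; exact hS x hx _ ih
  by_contra h
  obtain ⟨α, hα1, hα⟩ := Submodule.exists_dual_map_eq_bot_of_notMem h inferInstance
  have hα0 : ∀ s ∈ S, α s = 0 := fun s hs ↦ by
    have : α s ∈ S.map α := Submodule.mem_map_of_mem hs
    rwa [hα, Submodule.mem_bot] at this
  have key : ∀ g : 𝔸, g (ComodLib.coeff (A := A) α v) = α (g • v) := fun g ↦ by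
    rw [← ComodLib.counit_smul g, ← LinearMap.map_smul, ComodLib.counit_coeff]
  have hc : ComodLib.coeff (A := A) α v = 0 := eq_zero_of_mem_dead (k := k) fun g hg ↦ by
    rw [key]; exact hα0 _ (hprod g hg)
  apply hα1
  rw [← key, hc]
  exact map_zero f.ofConv

theorem isSubcomod_of_lie {S : Submodule k V} (hS : ∀ x : 𝔸, IsDer x → ∀ v ∈ S, x • v ∈ S) :
    IsSubcomod (k := k) (A := A) S :=
  (ComodLib.isSubcomod_iff S).2 fun f _ hv ↦ smul_mem_of_lie hS f hv

/-- A vector killed by the point derivations is fixed. -/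
theorem mem_fixedPts_of_lie {v : V} (hv : ∀ x : 𝔸, IsDer x → x • v = 0) : v ∈ fixedPts k A V := by
  show Comod.coact (k := k) (A := A) v = v ⊗ₜ[k] (1 : A)
  refine ComodLib.ext_slice fun f ↦ ?_
  rw [ComodLib.slice_tmul]
  show toConv f • v = _
  rw [← sub_eq_zero]
  have h0 : ∀ g ∈ Submonoid.closure {x : 𝔸 | IsDer x}, g • v = g (1 : A) • v := by
    intro g hg
    induction hg using Submonoid.closure_induction_right with
    | one => rw [one_smul, LinearMap.convOne_apply, Bialgebra.counit_one, map_one, one_smul]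
    | mul_right g _ x hx ih =>
      rw [mul_smul, hv x hx, smul_zero, ← apply_smul, Groth.Agent.UnipHopf.smul_one_eq, IsDer.one hx, zero_smul,
        show g (0 : A) = 0 from map_zero g.ofConv, zero_smul]
  by_contra h
  obtain ⟨α, hα1, -⟩ := Submodule.exists_dual_map_eq_bot_of_notMem (p := (⊥ : Submodule k V))
    (by simpa using h) inferInstance
  have key : ∀ g : 𝔸, g (ComodLib.coeff (A := A) α v) = α (g • v) := fun g ↦ by
    rw [← ComodLib.counit_smul g, ← LinearMap.map_smul, ComodLib.counit_coeff]
  have hc : ComodLib.coeff (A := A) α v = α v • (1 : A) := sub_eq_zero.1 <|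
    eq_zero_of_mem_dead (k := k) fun g hg ↦ by
      show g.ofConv (_ - _) = 0
      rw [map_sub, map_smul, show g.ofConv _ = _ from key g, h0 g hg, map_smul, smul_eq_mul, smul_eq_mul, mul_comm,
        sub_self]
  apply hα1
  rw [map_sub, ← key (toConv f), hc, map_smul]
  simp [mul_comm]

/-- Maps commuting with the point derivations commute with the whole dual algebra. -/
theorem map_smul_of_lie {W : Type w} [AddCommGroup W] [Module k W] [Comod k A W] (φ : V →ₗ[k] W)
    (h : ∀ x : 𝔸, IsDer x → ∀ v, φ (x • v) = x • φ v) (f : 𝔸) (v : V) : φ (f • v) = f • φ v := by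
  by_contra hne
  obtain ⟨α, hα1, -⟩ := Submodule.exists_dual_map_eq_bot_of_notMem (p := (⊥ : Submodule k W))
    (show φ (f • v) - f • φ v ∉ (⊥ : Submodule k W) by simpa [sub_eq_zero] using hne) inferInstance
  have key : ∀ {X : Type w} [AddCommGroup X] [Module k X] [Comod k A X] (β : X →ₗ[k] k) (g : 𝔸) (y : X),
      g (ComodLib.coeff (A := A) β y) = β (g • y) := fun β g y ↦ by
    rw [← ComodLib.counit_smul g, ← LinearMap.map_smul, ComodLib.counit_coeff]
  have hprod : ∀ g ∈ Submonoid.closure {x : 𝔸 | IsDer x}, ∀ v, φ (g • v) = g • φ v := by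
    intro g hg
    induction hg using Submonoid.closure_induction_left with
    | one => intro v; rw [one_smul, one_smul]
    | mul_left x hx g _ ih => intro v; rw [mul_smul, mul_smul, h x hx, ih]
  have hc : ComodLib.coeff (A := A) (α ∘ₗ φ) v = ComodLib.coeff (A := A) α (φ v) := sub_eq_zero.1 <|
    eq_zero_of_mem_dead (k := k) fun g hg ↦ by
      show g.ofConv (_ - _) = 0
      rw [map_sub, show g.ofConv _ = _ from key _ g v, show g.ofConv _ = _ from key _ g (φ v),
        LinearMap.comp_apply, hprod g hg, sub_self]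
  apply hα1
  rw [map_sub, ← key α f (φ v), ← hc, key _ f v, LinearMap.comp_apply, sub_self]

end comod

end RedCharZeroLib

end
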