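import Mathlib.Algebra.Lie.CartanCriterion
import Mathlib.Algebra.Lie.Semisimple.Basic
import Mathlib.LinearAlgebra.BilinearForm.Properties
import Mathlib.Algebra.Lie.Engel

/-!
# Weyl: a trivial quotient of a module over a semisimple Lie algebra lifts to an invariant

The Casimir element of the trace form of the kernel gives the invariant line.
-/

set_option autoImplicit false

universe u v w

open LieModule LieAlgebra Module

namespace RedCharZeroLib

attribute [local instance 100] LieRing.ofAssociativeRing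

variable {k : Type u} [Field k] [CharZero k] {L : Type v} [LieRing L] [LieAlgebra k L] [Module.Finite k L]
  [HasTrivialRadical k L]

omit [CharZero k] [Module.Finite k L] [HasTrivialRadical k L] in
/-- Two actions killing the kernel of the composite vanish on brackets. -/
theorem toEnd_lie_eq_zero {M : Type w} [AddCommGroup M] [Module k M] [LieRingModule L M] [LieModule k L M]
    {U : LieSubmodule k L M} (hU : ∀ (x : L) (m : M), ⁅x, m⁆ ∈ U) (h0 : ∀ (x : L), ∀ m ∈ U, ⁅x, m⁆ = 0)
    (x y : L) (m : M) : ⁅⁅x, y⁆, m⁆ = 0 := by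
  rw [lie_lie, h0 x _ (hU y m), h0 y _ (hU x m), sub_zero]

theorem derived_eq_top : ⁅(⊤ : LieIdeal k L), (⊤ : LieIdeal k L)⁆ = ⊤ := by
  set D := ⁅(⊤ : LieIdeal k L), (⊤ : LieIdeal k L)⁆
  obtain ⟨J, hJ⟩ := exists_isCompl D
  have hab : IsLieAbelian J := by
    refine (LieSubmodule.lie_abelian_iff_lie_self_eq_bot J).mpr (le_bot_iff.mp ?_)
    refine le_trans ?_ hJ.disjoint.le_bot
    exact le_inf (LieSubmodule.mono_lie le_top le_top) (LieSubmodule.lie_le_right _ _)
  have : J = ⊥ := (hasTrivialRadical_iff_no_abelian_ideals k L).mp inferInstance J hab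
  rw [this] at hJ
  simpa using hJ.sup_eq_top

/-- The kernel of a trace form meets a complement of the kernel of the representation trivially. -/
theorem eq_bot_of_traceForm_eq_zero {M : Type w} [AddCommGroup M] [Module k M] [Module.Finite k M]
    [LieRingModule L M] [LieModule k L M] (I : LieIdeal k L) (hf : ∀ x ∈ I, (∀ m : M, ⁅x, m⁆ = 0) → x = 0)
    (h : ∀ x ∈ I, ∀ y ∈ I, traceForm k L M x y = 0) : I = ⊥ := by
  haveI : IsFaithful k I M := ⟨(injective_iff_map_eq_zero _).mpr fun x hx ↦ Subtype.ext (hf x x.2 fun m ↦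
    LinearMap.congr_fun hx m)⟩
  have htf : traceForm k I M = 0 := by
    ext x y
    exact h x x.2 y y.2
  have hnil : LieModule.IsNilpotent (derivedSeries k I 1) M :=
    LieModule.isNilpotent_derivedSeries_of_traceForm_eq_zero htf
  set J := derivedSeries k I 1
  have hinj : Function.Injective (toEnd k I M) := IsFaithful.injective_toEnd
  have : LieRing.IsNilpotent J := by
    rw [LieAlgebra.isNilpotent_iff_forall (R := k)]
    intro x
    obtain ⟨n, hn⟩ := (LieModule.isNilpotent_iff_forall' (R := k)).mp hnil x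
    obtain ⟨N, hN⟩ := LieAlgebra.ad_nilpotent_of_nilpotent (R := k) (A := Module.End k M) (a := toEnd k J M x) ⟨n, hn⟩
    refine ⟨N, LinearMap.ext fun y ↦ ?_⟩
    have e : ∀ z : J, toEnd k J M ((LieAlgebra.ad k J x) z) =
        (LieAlgebra.ad k (Module.End k M) (toEnd k J M x)) (toEnd k J M z) := fun z ↦ LieHom.map_lie _ _ _
    have e' : ∀ j, toEnd k J M (((LieAlgebra.ad k J x) ^ j) y) =
        ((LieAlgebra.ad k (Module.End k M) (toEnd k J M x)) ^ j) (toEnd k J M y) := by
      intro j
      induction j with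
      | zero => simp
      | succ j ih => rw [pow_succ', pow_succ', Module.End.mul_apply, Module.End.mul_apply, e, ih]
    have h0 : toEnd k J M (((LieAlgebra.ad k J x) ^ N) y) = 0 := by rw [e', hN]; rfl
    exact Subtype.ext (hinj (h0.trans (map_zero (toEnd k I M)).symm))
  haveI : IsSolvable J := inferInstance
  haveI : IsSolvable I := by
    obtain ⟨n, hn⟩ := IsSolvable.solvable k J
    rw [LieIdeal.derivedSeries_eq_bot_iff] at hn
    refine IsSolvable.mk (R := k) (k := n + 1) ?_
    rw [derivedSeries_def, derivedSeriesOfIdeal_add]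
    exact hn
  exact HasTrivialRadical.eq_bot_of_isSolvable I

/-- Weyl: a trivial quotient lifts to an invariant. -/
theorem exists_invariant (n : ℕ) : ∀ (M : Type w) [AddCommGroup M] [Module k M] [Module.Finite k M]
    [LieRingModule L M] [LieModule k L M], finrank k M = n → ∀ φ : M →ₗ[k] k, (∀ (x : L) m, φ ⁅x, m⁆ = 0) →
      φ ≠ 0 → ∃ m, (∀ x : L, ⁅x, m⁆ = 0) ∧ φ m ≠ 0 := by
  induction n using Nat.strong_induction_on with
  | _ n ih =>
  intro M _ _ _ _ _ hn φ hφ hne
  classical
  obtain ⟨m₀, hm₀⟩ : ∃ m, φ m ≠ 0 := by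
    by_contra! h
    exact hne (LinearMap.ext h)
  let U : LieSubmodule k L M := { LinearMap.ker φ with lie_mem := fun {x m} _ ↦ hφ x m }
  have hU : ∀ (x : L) (m : M), ⁅x, m⁆ ∈ U := hφ
  by_cases hirr : ∃ U₁ : LieSubmodule k L M, U₁ ≠ ⊥ ∧ U₁ < U
  · -- reducible kernel
    obtain ⟨U₁, hU₁, hlt⟩ := hirr
    have hle : (U₁ : Submodule k M) ≤ LinearMap.ker φ := hlt.le
    let φ' : (M ⧸ (U₁ : Submodule k M)) →ₗ[k] k := (U₁ : Submodule k M).liftQ φ hle
    have hlt' : finrank k (M ⧸ U₁) < n := by
      have h1 := Submodule.finrank_quotient_add_finrank (U₁ : Submodule k M)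
      have h2 : 0 < finrank k ↥(U₁ : Submodule k M) := by
        rw [Nat.pos_iff_ne_zero]
        intro h0
        exact hU₁ ((LieSubmodule.toSubmodule_eq_bot U₁).mp (Submodule.finrank_eq_zero.mp h0))
      show finrank k (M ⧸ (U₁ : Submodule k M)) < n
      omega
    obtain ⟨w, hw, hwφ⟩ := ih _ hlt' (M ⧸ U₁) rfl φ' (fun x m ↦ by
      induction m using Submodule.Quotient.induction_on with
      | H m => exact hφ x m) (fun h ↦ hm₀ (LinearMap.congr_fun h (Submodule.Quotient.mk m₀)))
    obtain ⟨w₀, rfl⟩ := Submodule.Quotient.mk_surjective _ w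
    -- the preimage of the invariant line
    let M' : LieSubmodule k L M :=
      { (U₁ : Submodule k M) ⊔ (k ∙ w₀) with
        lie_mem := fun {x m} hm ↦ by
          obtain ⟨a, ha, b, hb, rfl⟩ := Submodule.mem_sup.mp hm
          obtain ⟨c, rfl⟩ := Submodule.mem_span_singleton.mp hb
          refine Submodule.mem_sup_left ?_
          rw [lie_add, lie_smul]
          refine add_mem (U₁.lie_mem ha) (Submodule.smul_mem _ c ?_)
          exact (Submodule.Quotient.mk_eq_zero _).mp (hw x) }
    have hMlt : finrank k M' < n := by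
      obtain ⟨z, hzU, hz⟩ := SetLike.exists_of_lt hlt
      rw [← hn]
      refine Submodule.finrank_lt fun htop ↦ hz ?_
      have hz' : z ∈ (U₁ : Submodule k M) ⊔ (k ∙ w₀) := by
        rw [show (U₁ : Submodule k M) ⊔ (k ∙ w₀) = ⊤ from htop]
        trivial
      obtain ⟨a, ha, b, hb, hab⟩ := Submodule.mem_sup.mp hz'
      obtain ⟨c, rfl⟩ := Submodule.mem_span_singleton.mp hb
      have h0 : φ (a + c • w₀) = 0 := by rw [hab]; exact hzU
      rw [map_add, show φ a = 0 from hle ha, zero_add, map_smul, smul_eq_mul, mul_eq_zero] at h0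
      rw [← hab, h0.resolve_right hwφ, zero_smul, add_zero]
      exact ha
    obtain ⟨w', hw', hwφ'⟩ := ih _ hMlt M' rfl (φ ∘ₗ (M' : Submodule k M).subtype) (fun x m ↦ hφ x m)
      (fun h ↦ hwφ (LinearMap.congr_fun h ⟨w₀, Submodule.mem_sup_right (Submodule.mem_span_singleton_self _)⟩))
    exact ⟨w', fun x ↦ congrArg Subtype.val (hw' x), hwφ'⟩
  · -- irreducible kernel
    push Not at hirr
    have hsimple : ∀ U₁ : LieSubmodule k L M, U₁ ≤ U → U₁ = ⊥ ∨ U₁ = U := fun U₁ h ↦
      or_iff_not_imp_left.mpr fun hb ↦ eq_of_le_of_not_lt h (hirr U₁ hb)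
    let K : LieIdeal k L := LieModule.ker k L U
    obtain ⟨K', hKK'⟩ := exists_isCompl K
    by_cases hK' : K' = ⊥
    · -- the kernel is a trivial module
      have hKtop : K = ⊤ := by simpa [hK'] using hKK'.sup_eq_top
      have h0 : ∀ (x : L), ∀ m ∈ U, ⁅x, m⁆ = 0 := fun x m hm ↦ by
        have hx : x ∈ K := hKtop ▸ trivial
        rw [LieModule.mem_ker] at hx
        exact congrArg Subtype.val (hx ⟨m, hm⟩)
      refine ⟨m₀, fun x ↦ ?_, hm₀⟩
      have hx : x ∈ ⁅(⊤ : LieIdeal k L), (⊤ : LieIdeal k L)⁆ := by rw [derived_eq_top]; trivial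
      rw [← LieSubmodule.mem_toSubmodule, LieSubmodule.lieIdeal_oper_eq_linear_span'] at hx
      induction hx using Submodule.span_induction with
      | mem z hz => obtain ⟨a, -, b, -, rfl⟩ := hz; exact toEnd_lie_eq_zero hU h0 a b m₀
      | zero => exact zero_lie m₀
      | add a b _ _ ha hb => rw [add_lie, ha, hb, add_zero]
      | smul c a _ ha => rw [smul_lie, ha, smul_zero]
    · -- the Casimir element
      let B : LinearMap.BilinForm k K' := (traceForm k L U).compl₁₂ (K' : Submodule k L).subtype (K' : Submodule k L).subtype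
      have hBapply : ∀ x y : K', B x y = traceForm k L U x y := fun _ _ ↦ rfl
      have hB : B.Nondegenerate := by
        refine (LinearMap.IsRefl.nondegenerate_iff_separatingLeft (B := B) (fun x y h ↦ ?_)).mpr fun x hx ↦ ?_
        · rw [hBapply, traceForm_comm, ← hBapply]; exact h
        let R : LieIdeal k L :=
          { carrier := {x | x ∈ K' ∧ ∀ y ∈ K', traceForm k L U x y = 0}
            zero_mem' := ⟨K'.zero_mem, fun y _ ↦ by simp⟩
            add_mem' := fun {a b} ha hb ↦ ⟨K'.add_mem ha.1 hb.1, fun y hy ↦ by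
              simp [ha.2 y hy, hb.2 y hy]⟩
            smul_mem' := fun c a ha ↦ ⟨K'.smul_mem c ha.1, fun y hy ↦ by simp [ha.2 y hy]⟩
            lie_mem := fun {z a} ha ↦ ⟨K'.lie_mem ha.1, fun y hy ↦ by
              rw [← lie_skew, map_neg, LinearMap.neg_apply, traceForm_apply_lie_apply, ha.2 _ (K'.lie_mem hy), neg_zero]⟩ }
        have hR : R = ⊥ := eq_bot_of_traceForm_eq_zero (M := U) R
          (fun x hx hxm ↦ by
            have : x ∈ K ⊓ K' := ⟨(LieModule.mem_ker _ _ _ _).mpr hxm, hx.1⟩
            rw [hKK'.inf_eq_bot] at this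
            exact this)
          (fun x hx y hy ↦ hx.2 y hy.1)
        have hxR : (x : L) ∈ R := ⟨x.2, fun y hy ↦ hx ⟨y, hy⟩⟩
        rw [hR, LieSubmodule.mem_bot] at hxR
        exact Subtype.ext hxR
      let b := Module.finBasis k K'
      let b' := B.dualBasis hB b
      have hb' : ∀ i j, B (b' i) (b j) = if j = i then 1 else 0 := fun i j ↦
        LinearMap.BilinForm.apply_dualBasis_left hB b i j
      let ρ : L →ₗ⁅k⁆ Module.End k M := toEnd k L M
      let c : Module.End k M := ∑ i, ρ (b i) * ρ (b' i)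
      have hexp : ∀ (z : K'), z = ∑ j, B (b' j) z • b j := fun z ↦ by
        conv_lhs => rw [← b.sum_repr z]
        refine Finset.sum_congr rfl fun j _ ↦ ?_
        congr 1
        conv_rhs => rw [← b.sum_repr z, map_sum]
        simp only [map_smul, hb', smul_eq_mul, mul_ite, mul_one, mul_zero, Finset.sum_ite_eq', Finset.mem_univ, if_true]
      have hexp' : ∀ (z : K'), z = ∑ j, B z (b j) • b' j := fun z ↦ by
        conv_lhs => rw [← b'.sum_repr z]
        refine Finset.sum_congr rfl fun j _ ↦ ?_
        rw [LinearMap.BilinForm.dualBasis_repr_apply]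
      have hcomm : ∀ x : L, ρ x * c = c * ρ x := by
        intro x
        let bx : Fin (finrank k K') → K' := fun i ↦ ⟨⁅x, (b i : L)⁆, K'.lie_mem (b i).2⟩
        let bx' : Fin (finrank k K') → K' := fun i ↦ ⟨⁅x, (b' i : L)⁆, K'.lie_mem (b' i).2⟩
        have hadj : ∀ i j, B (bx' i) (b j) = - B (b' i) (bx j) := fun i j ↦ by
          rw [hBapply, hBapply]
          show traceForm k L U ⁅x, (b' i : L)⁆ (b j : L) = - traceForm k L U (b' i : L) ⁅x, (b j : L)⁆
          rw [← lie_skew, map_neg, LinearMap.neg_apply, traceForm_apply_lie_apply]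
        have h1 : ∀ i, ρ ⁅x, (b i : L)⁆ = ∑ j, B (b' j) (bx i) • ρ (b j) := fun i ↦ by
          have := congrArg (fun z : K' ↦ ρ (z : L)) (hexp (bx i))
          simpa [bx] using this
        have h2 : ∀ i, ρ ⁅x, (b' i : L)⁆ = ∑ j, (- B (b' i) (bx j)) • ρ (b' j) := fun i ↦ by
          have := congrArg (fun z : K' ↦ ρ (z : L)) (hexp' (bx' i))
          simpa [bx', hadj] using this
        have hsum : ∑ i, (ρ ⁅x, (b i : L)⁆ * ρ (b' i) + ρ (b i) * ρ ⁅x, (b' i : L)⁆) = 0 := by
          simp only [Finset.sum_add_distrib, h1, h2, Finset.sum_mul, Finset.mul_sum, smul_mul_assoc,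
            mul_smul_comm, neg_smul, mul_neg, Finset.sum_neg_distrib]
          rw [Finset.sum_comm, add_neg_cancel]
        rw [← sub_eq_zero, ← hsum, Finset.mul_sum, Finset.sum_mul, ← Finset.sum_sub_distrib]
        refine Finset.sum_congr rfl fun i _ ↦ ?_
        rw [LieHom.map_lie, LieHom.map_lie, Ring.lie_def, Ring.lie_def]
        noncomm_ring
      have hcU : ∀ m, c m ∈ U := fun m ↦ by
        simp only [c, LinearMap.sum_apply, Module.End.mul_apply]
        exact sum_mem fun i _ ↦ hU _ _
      let cU : Module.End k U := c.restrict (fun m (_ : m ∈ (U : Submodule k M)) ↦ hcU m)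
      have htr : LinearMap.trace k U cU = (finrank k K' : k) := by
        have : cU = ∑ i, toEnd k L U (b i) * toEnd k L U (b' i) := by
          refine LinearMap.ext fun m ↦ Subtype.ext ?_
          show c (m : M) = _
          simp [c, LinearMap.sum_apply, ρ]
        rw [this, map_sum]
        rw [show (finrank k K' : k) = ∑ _i : Fin (finrank k K'), (1 : k) by simp]
        refine Finset.sum_congr rfl fun i _ ↦ ?_
        have := hb' i i
        rw [hBapply, traceForm_comm, traceForm_apply_apply, if_pos rfl] at this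
        exact this
      have hinj : ∀ m ∈ U, c m = 0 → m = 0 := by
        let N : LieSubmodule k L M :=
          { (U : Submodule k M) ⊓ LinearMap.ker c with
            lie_mem := fun {x m} hm ↦ ⟨hU x m, by
              show c ⁅x, m⁆ = 0
              have := LinearMap.congr_fun (hcomm x) m
              simp only [Module.End.mul_apply, ρ, toEnd_apply_apply] at this
              rw [← this, show c m = 0 from hm.2, lie_zero]⟩ }
        rcases hsimple N (fun m hm ↦ hm.1) with h | h
        · intro m hm hcm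
          have : m ∈ N := ⟨hm, hcm⟩
          rwa [h, LieSubmodule.mem_bot] at this
        · exfalso
          have : cU = 0 := LinearMap.ext fun m ↦ Subtype.ext (by
            have hm : (m : M) ∈ N := by rw [h]; exact m.2
            exact hm.2)
          rw [this, map_zero] at htr
          have hpos : 0 < finrank k K' := by
            rw [Nat.pos_iff_ne_zero]
            exact fun h0 ↦ hK' ((LieSubmodule.toSubmodule_eq_bot K').mp (Submodule.finrank_eq_zero.mp h0))
          exact absurd htr.symm (Nat.cast_ne_zero.mpr hpos.ne')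
      have hsurj : Function.Surjective cU :=
        LinearMap.surjective_of_injective ((injective_iff_map_eq_zero _).mpr fun m hm ↦
          Subtype.ext (hinj m m.2 (congrArg Subtype.val hm)))
      obtain ⟨u, hu⟩ := hsurj ⟨c m₀, hcU m₀⟩
      have hu' : c u = c m₀ := congrArg Subtype.val hu
      refine ⟨m₀ - u, fun x ↦ hinj _ (hU x _) ?_, by rw [map_sub, show φ (u : M) = 0 from u.2, sub_zero]; exact hm₀⟩
      have h1 := LinearMap.congr_fun (hcomm x) (m₀ - u)
      simp only [Module.End.mul_apply, ρ, toEnd_apply_apply] at h1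
      rw [← h1, map_sub, hu', sub_self, lie_zero]

end RedCharZeroLib
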